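import Mathlib

/-!
# S3540, quasisimple rows: the numerical conditions

`Cand R o A n q`: there are `m` (the orbit length) and `h ≥ 2` (the order of the stabilisers) with `R ∣ h`,
`m ∣ q ^ n - 1`, `o ∣ m * h ∣ (q - 1) * A` and `(h - 1) * q ^ n ≤ h * m ^ 2`.
`Dead n T`: no candidate for `o = |T|`, `A = |Aut T|`, and every `q ≥ 2` prime to `|T|`.

* `dead_of_pow`: `A ^ 2 ≤ 2 * b ^ (n - 2)`, `b` the least `q`;
* `sieve`, `sieve_dead`: the kernel-checked search, all `n ≥ n₀`.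
-/

set_option autoImplicit false

universe u v

namespace Cfsg.Agent.H337.HT

/-- the numerical conditions -/
def Cand (R o A n q : ℕ) : Prop :=
  ∃ m h : ℕ, R ∣ h ∧ 2 ≤ h ∧ m ∣ q ^ n - 1 ∧ o ∣ m * h ∧ m * h ∣ (q - 1) * A ∧ (h - 1) * q ^ n ≤ h * m ^ 2

/-- no candidate -/
def Dead (n : ℕ) (T : Type u) [Group T] : Prop :=
  ∀ q, 2 ≤ q → q.Coprime (Nat.card T) → ¬ Cand 1 (Nat.card T) (Nat.card (MulAut T)) n q

theorem Cand.mono {R o A n q : ℕ} (h : Cand R o A n q) : Cand 1 o A n q := by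
  obtain ⟨m, h', -, h2⟩ := h
  exact ⟨m, h', one_dvd _, h2⟩

theorem Dead.congr {n : ℕ} {T : Type u} {T' : Type v} [Group T] [Group T'] (e : T ≃* T') (h : Dead n T) :
    Dead n T' := by
  have h1 : Nat.card T' = Nat.card T := (Nat.card_congr e.toEquiv).symm
  have h2 : Nat.card (MulAut T') = Nat.card (MulAut T) := (Nat.card_congr (MulAut.congr e).toEquiv).symm
  intro q hq hc
  rw [h1] at hc ⊢
  rw [h2]
  exact h q hq hc

/-- `q ^ n ≤ 2 m ^ 2` -/
theorem Cand.le_two {m h q n : ℕ} (h2 : 2 ≤ h) (hle : (h - 1) * q ^ n ≤ h * m ^ 2) : q ^ n ≤ 2 * m ^ 2 := by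
  obtain ⟨k, rfl⟩ : ∃ k, h = k + 2 := ⟨h - 2, by omega⟩
  have h3 : (k + 1) * q ^ n ≤ (k + 1) * (2 * m ^ 2) := by
    calc (k + 1) * q ^ n ≤ (k + 2) * m ^ 2 := hle
      _ ≤ (k + 1) * (2 * m ^ 2) := by nlinarith [Nat.zero_le (k * m ^ 2)]
  exact Nat.le_of_mul_le_mul_left h3 (by omega)

theorem Cand.pow_lt {R o A n q : ℕ} (hc : Cand R o A n q) (hn : 2 ≤ n) (hq : 2 ≤ q) (hA : 0 < A) :
    2 * q ^ (n - 2) < A ^ 2 := by
  obtain ⟨m, h, -, h2, -, -, hd, hle⟩ := hc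
  have h1 := Cand.le_two h2 hle
  have hpos : 0 < (q - 1) * A := Nat.mul_pos (by omega) hA
  have h3 : m * h ≤ (q - 1) * A := Nat.le_of_dvd hpos hd
  have h4 : 2 * m ≤ (q - 1) * A := by nlinarith
  have h5 : 2 * q ^ n ≤ ((q - 1) * A) ^ 2 := by nlinarith
  have h6 : ((q - 1) * A) ^ 2 < q ^ 2 * A ^ 2 := by
    rw [mul_pow]
    exact Nat.mul_lt_mul_of_pos_right (Nat.pow_lt_pow_left (by omega) (by norm_num)) (by positivity)
  have h7 : q ^ n = q ^ 2 * q ^ (n - 2) := by rw [← pow_add]; congr 1; omega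
  rw [h7] at h5
  have h8 : q ^ 2 * (2 * q ^ (n - 2)) < q ^ 2 * A ^ 2 := by
    calc q ^ 2 * (2 * q ^ (n - 2)) = 2 * (q ^ 2 * q ^ (n - 2)) := by ring
      _ ≤ ((q - 1) * A) ^ 2 := h5
      _ < _ := h6
  exact Nat.lt_of_mul_lt_mul_left h8

theorem Cand.gcd_le {R o A n q : ℕ} (hc : Cand R o A n q) (hq : 2 ≤ q) (hA : 0 < A) :
    q ^ n ≤ 2 * (Nat.gcd ((q - 1) * A) (q ^ n - 1)) ^ 2 := by
  obtain ⟨m, h, -, h2, hm, -, hd, hle⟩ := hc
  refine (Cand.le_two h2 hle).trans ?_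
  have h1 : m ∣ Nat.gcd ((q - 1) * A) (q ^ n - 1) := Nat.dvd_gcd ((Dvd.intro _ rfl).trans hd) hm
  have h3 : 0 < Nat.gcd ((q - 1) * A) (q ^ n - 1) :=
    Nat.gcd_pos_of_pos_left _ (Nat.mul_pos (by omega) hA)
  exact Nat.mul_le_mul_left 2 (Nat.pow_le_pow_left (Nat.le_of_dvd h3 h1) 2)

/-- **large degree** -/
theorem dead_of_pow {n b : ℕ} {T : Type u} [Group T] [Finite T] (hn : 2 ≤ n)
    (hb : ∀ q, 2 ≤ q → q.Coprime (Nat.card T) → b ≤ q) (h : Nat.card (MulAut T) ^ 2 ≤ 2 * b ^ (n - 2)) :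
    Dead n T := by
  intro q hq hc hcand
  have h1 := hcand.pow_lt hn hq Nat.card_pos
  have h2 : b ^ (n - 2) ≤ q ^ (n - 2) := Nat.pow_le_pow_left (hb q hq hc) _
  omega

/-! ### The search -/

/-- search over `q` -/
def loopQ (o A n : ℕ) : ℕ → ℕ → Bool
  | 0, q => Nat.ble (A ^ 2) (2 * q ^ (n - 2))
  | k + 1, q =>
    bif Nat.ble (A ^ 2) (2 * q ^ (n - 2)) then true
    else bif Nat.ble 2 (Nat.gcd q o) then loopQ o A n k (q + 1)
    else bif Nat.blt (2 * (Nat.gcd ((q - 1) * A) (q ^ n - 1)) ^ 2) (q ^ n) then loopQ o A n k (q + 1) else false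

/-- search over `n` -/
def loopN (o A q₀ fq : ℕ) : ℕ → ℕ → Bool
  | 0, n => Nat.ble (A ^ 2) (2 * q₀ ^ (n - 2))
  | k + 1, n =>
    bif Nat.ble (A ^ 2) (2 * q₀ ^ (n - 2)) then true
    else bif loopQ o A n fq q₀ then loopN o A q₀ fq k (n + 1) else false

theorem loopQ_spec {o A n : ℕ} (hn : 2 ≤ n) (hA : 0 < A) : ∀ (k q₀ : ℕ), 2 ≤ q₀ → loopQ o A n k q₀ = true →
    ∀ q, q₀ ≤ q → q.Coprime o → ¬ Cand 1 o A n q
  | 0, q₀, h2, h, q, hq, _, hc => by
    have h1 : A ^ 2 ≤ 2 * q₀ ^ (n - 2) := Nat.le_of_ble_eq_true h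
    have h3 := hc.pow_lt hn (h2.trans hq) hA
    have h4 : q₀ ^ (n - 2) ≤ q ^ (n - 2) := Nat.pow_le_pow_left hq _
    omega
  | k + 1, q₀, h2, h, q, hq, hco, hc => by
    rw [loopQ] at h
    cases h1 : Nat.ble (A ^ 2) (2 * q₀ ^ (n - 2)) with
    | true =>
      have h1' := Nat.le_of_ble_eq_true h1
      have h3 := hc.pow_lt hn (h2.trans hq) hA
      have h4 : q₀ ^ (n - 2) ≤ q ^ (n - 2) := Nat.pow_le_pow_left hq _
      omega
    | false =>
      rw [h1, cond_false] at h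
      rcases hq.eq_or_lt with rfl | hlt
      · have h5 : Nat.ble 2 (Nat.gcd q₀ o) = false := by
          have : Nat.gcd q₀ o = 1 := hco
          rw [this]; rfl
        rw [h5, cond_false] at h
        have h6 := hc.gcd_le h2 hA
        cases h7 : Nat.blt (2 * (Nat.gcd ((q₀ - 1) * A) (q₀ ^ n - 1)) ^ 2) (q₀ ^ n) with
        | true =>
          rw [Nat.blt_eq] at h7
          omega
        | false => rw [h7, cond_false] at h; exact Bool.noConfusion h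
      · have h8 : loopQ o A n k (q₀ + 1) = true := by
          cases h5 : Nat.ble 2 (Nat.gcd q₀ o) with
          | true => rwa [h5, cond_true] at h
          | false =>
            rw [h5, cond_false] at h
            cases h7 : Nat.blt (2 * (Nat.gcd ((q₀ - 1) * A) (q₀ ^ n - 1)) ^ 2) (q₀ ^ n) with
            | true => rwa [h7, cond_true] at h
            | false => rw [h7, cond_false] at h; exact Bool.noConfusion h
        exact loopQ_spec hn hA k (q₀ + 1) (by omega) h8 q hlt hco hc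

theorem loopN_spec {o A q₀ fq : ℕ} (h2 : 2 ≤ q₀) (hA : 0 < A) : ∀ (k n₀ : ℕ), 2 ≤ n₀ →
    loopN o A q₀ fq k n₀ = true → ∀ n, n₀ ≤ n → ∀ q, q₀ ≤ q → q.Coprime o → ¬ Cand 1 o A n q
  | 0, n₀, hn₀, h, n, hn, q, hq, _, hc => by
    have h1 : A ^ 2 ≤ 2 * q₀ ^ (n₀ - 2) := Nat.le_of_ble_eq_true h
    have h3 := hc.pow_lt (hn₀.trans hn) (h2.trans hq) hA
    have h4 : q₀ ^ (n₀ - 2) ≤ q ^ (n - 2) :=
      (Nat.pow_le_pow_left hq _).trans (Nat.pow_le_pow_right (by omega) (by omega))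
    omega
  | k + 1, n₀, hn₀, h, n, hn, q, hq, hco, hc => by
    rw [loopN] at h
    cases h1 : Nat.ble (A ^ 2) (2 * q₀ ^ (n₀ - 2)) with
    | true =>
      have h1' := Nat.le_of_ble_eq_true h1
      have h3 := hc.pow_lt (hn₀.trans hn) (h2.trans hq) hA
      have h4 : q₀ ^ (n₀ - 2) ≤ q ^ (n - 2) :=
        (Nat.pow_le_pow_left hq _).trans (Nat.pow_le_pow_right (by omega) (by omega))
      omega
    | false =>
      rw [h1, cond_false] at h
      cases h5 : loopQ o A n₀ fq q₀ with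
      | true =>
        rw [h5, cond_true] at h
        rcases hn.eq_or_lt with rfl | hlt
        · exact loopQ_spec hn₀ hA fq q₀ h2 h5 q hq hco hc
        · exact loopN_spec h2 hA k (n₀ + 1) (by omega) h n hlt q hq hco hc
      | false => rw [h5, cond_false] at h; exact Bool.noConfusion h

/-- every `q ≥ 2` prime to `o` is at least `q₀` -/
theorem le_of_coprime {o q₀ : ℕ} (h : (List.range q₀).all (fun q => Nat.ble q 1 || Nat.ble 2 (Nat.gcd q o)) = true)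
    {q : ℕ} (hq : 2 ≤ q) (hc : q.Coprime o) : q₀ ≤ q := by
  by_contra hlt
  rw [List.all_eq_true] at h
  have h1 := h q (List.mem_range.2 (by omega))
  rw [Bool.or_eq_true, Nat.ble_eq, Nat.ble_eq] at h1
  have h2 : Nat.gcd q o = 1 := hc
  omega

/-- **The search.** `o = |T|`, `A = |Aut T|`; all `n ≥ n₀`. The three checks are closed by `rfl` or `by decide`. -/
theorem sieve_dead {T : Type u} [Group T] {o A n₀ n : ℕ} (q₀ fq fn : ℕ) (ho : Nat.card T = o)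
    (hA : Nat.card (MulAut T) = A) (hA0 : 0 < A) (h2 : 2 ≤ q₀) (hn₀ : 2 ≤ n₀)
    (h1 : (List.range q₀).all (fun q => Nat.ble q 1 || Nat.ble 2 (Nat.gcd q o)) = true)
    (h : loopN o A q₀ fq fn n₀ = true) (hn : n₀ ≤ n) : Dead n T := by
  intro q hq hc
  rw [ho] at hc ⊢
  rw [hA]
  exact loopN_spec h2 hA0 fn n₀ hn₀ h n hn q (le_of_coprime h1 hq hc) hc

end Cfsg.Agent.H337.HT
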