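import Cfsg.Agent.H391.HT.NumP

/-!
# S3512, quasisimple rows with `p ∣ |L|`: the numerical conditions on a simple group

`DeadP p n T`: no solution of helper391's conditions `CP` for `o = |T|`, `A = |Aut T|`, degree `n` and `q = p ^ k`.

* `deadP_of_pow`: `2 * A ^ 2 ≤ b ^ (n - 2)`, `b ≤ p`;
* `deadP_sieve`: the kernel-checked search for all primes `p ≠ r` dividing `|T|` and all `n ≥ n₀`;
* `deadP_sieve1`: the same for a list of `n`.
-/

set_option autoImplicit false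

universe u v

namespace Cfsg.Agent.H337.HT

open Cfsg.Agent.H391.HT

/-- no candidate, characteristic `p` -/
def DeadP (p n : ℕ) (T : Type u) [Group T] : Prop :=
  ∀ k m h, 1 ≤ k → ¬ CP (Nat.card T) (Nat.card (MulAut T)) n (p ^ k) m h

theorem DeadP.congr {p n : ℕ} {T : Type u} {T' : Type v} [Group T] [Group T'] (e : T ≃* T') (h : DeadP p n T) :
    DeadP p n T' := by
  have h1 : Nat.card T' = Nat.card T := (Nat.card_congr e.toEquiv).symm
  have h2 : Nat.card (MulAut T') = Nat.card (MulAut T) := (Nat.card_congr (MulAut.congr e).toEquiv).symm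
  intro k m h' hk
  rw [h1, h2]
  exact h k m h' hk

theorem CP.of_dvd {o A A' n q m h : ℕ} (hA : A ∣ A') (hc : CP o A n q m h) : CP o A' n q m h := by
  obtain ⟨h1, h2, h3, h4, h5, h6⟩ := hc
  exact ⟨h1, h2, h3, h4, h5.trans (Nat.mul_dvd_mul_left _ hA), h6⟩

/-- **large degree** -/
theorem deadP_of_pow {p n b A : ℕ} {T : Type u} [Group T] (hp : p.Prime) (hn : 2 ≤ n) (hb : b ≤ p)
    (hA : Nat.card (MulAut T) ≤ A) (hA0 : 0 < Nat.card (MulAut T)) (h : 2 * A ^ 2 ≤ b ^ (n - 2)) : DeadP p n T := by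
  intro k m h' hk hc
  have h1 := hc.pow_lt hp (a := 0) (A' := Nat.card (MulAut T)) (by rw [pow_zero, one_mul]) hA0 hk hn
  have h2 : b ^ (n - 2) ≤ (p ^ k) ^ (n - 2) :=
    Nat.pow_le_pow_left (hb.trans (Nat.le_self_pow (by omega) p)) _
  have h3 : Nat.card (MulAut T) ^ 2 ≤ A ^ 2 := Nat.pow_le_pow_left hA 2
  omega

/-- **large degree**, with the part of `|Aut T|` prime to `p` -/
theorem deadP_of_pow' {p n a A' : ℕ} {T : Type u} [Group T] (hp : p.Prime) (hn : 2 ≤ n)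
    (hA : Nat.card (MulAut T) ∣ p ^ a * A') (hA0 : 0 < A') (h : 2 * A' ^ 2 ≤ p ^ (n - 2)) : DeadP p n T := by
  intro k m h' hk hc
  have h1 := (CP.of_dvd hA hc).pow_lt hp (a := a) (A' := A') rfl hA0 hk hn
  have h2 : p ^ (n - 2) ≤ (p ^ k) ^ (n - 2) :=
    Nat.pow_le_pow_left (Nat.le_self_pow (by omega) p) _
  omega

/-! ### The search -/

/-- split off the powers of `p` -/
def strp (p : ℕ) : ℕ → ℕ → ℕ → ℕ × ℕ
  | 0, a, A => (a, A)
  | f + 1, a, A => bif Nat.beq (A % p) 0 then strp p f (a + 1) (A / p) else (a, A)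

/-- the search for one prime -/
def oneP (o A n₀ p : ℕ) : Bool :=
  let s := strp p 400 0 A
  Nat.beq A (p ^ s.1 * s.2) && (Nat.blt 0 s.2 && loopN [] p o A (2 * s.2 ^ 2) 400 4000 4000 n₀)

/-- divide `o` by all powers of the members of the list -/
def strAll : List ℕ → ℕ → ℕ
  | [], o => o
  | p :: l, o => strAll l (strp p 400 0 o).2

/-- the search for all primes of the list; all prime divisors of `o` are `r` or in the list -/
def chkP (r : ℕ) (ps : List ℕ) (o A n₀ : ℕ) : Bool :=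
  Nat.beq (strAll (r :: ps) o) 1 && (Nat.ble 3 n₀ && ps.all (oneP o A n₀))

theorem strp_dvd (p : ℕ) : ∀ (f a A : ℕ), ∃ b, A = p ^ b * (strp p f a A).2
  | 0, a, A => ⟨0, by rw [strp, pow_zero, one_mul]⟩
  | f + 1, a, A => by
    rw [strp]
    cases h : Nat.beq (A % p) 0 with
    | false => exact ⟨0, by rw [cond_false, pow_zero, one_mul]⟩
    | true =>
      rw [cond_true]
      obtain ⟨b, hb⟩ := strp_dvd p f (a + 1) (A / p)
      rw [Nat.beq_eq] at h
      refine ⟨b + 1, ?_⟩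
      rw [pow_succ, mul_comm (p ^ b) p, mul_assoc, ← hb, Nat.mul_div_cancel' (Nat.dvd_of_mod_eq_zero h)]

theorem mem_of_strAll {t : ℕ} (ht : t.Prime) : ∀ (l : List ℕ) (o : ℕ), (∀ p ∈ l, p.Prime) → strAll l o = 1 →
    t ∣ o → t ∈ l
  | [], o, _, h, hd => by
    rw [strAll] at h
    rw [h] at hd
    exact absurd (Nat.dvd_one.1 hd) ht.one_lt.ne'
  | p :: l, o, hl, h, hd => by
    rw [strAll] at h
    obtain ⟨b, hb⟩ := strp_dvd p 400 0 o
    rw [hb] at hd
    rcases (Nat.Prime.dvd_mul ht).1 hd with h1 | h1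
    · have h2 : t ∣ p := ht.dvd_of_dvd_pow h1
      rw [(Nat.prime_dvd_prime_iff_eq ht (hl p List.mem_cons_self)).1 h2]
      exact List.mem_cons_self
    · exact List.mem_cons_of_mem _ (mem_of_strAll ht l _ (fun q hq => hl q (List.mem_cons_of_mem _ hq)) h h1)

theorem oneP_spec {o A n₀ p : ℕ} (hp : p.Prime) (h3 : 3 ≤ n₀) (h1 : oneP o A n₀ p = true)
    {n k m h : ℕ} (hn : n₀ ≤ n) (hk : 1 ≤ k) : ¬ CP o A n (p ^ k) m h := by
  intro hc
  rw [oneP, Bool.and_eq_true, Bool.and_eq_true, Nat.beq_eq, Nat.blt_eq] at h1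
  obtain ⟨h2, h4, h5⟩ := h1
  have := loopN_spec hp h2 h4 4000 n₀ h3 h5 n k m h hn hk hc
  exact absurd this List.not_mem_nil

/-- **the search** for all primes `p ≠ r` dividing `|T|`, all `n ≥ n₀` -/
theorem deadP_sieve {T : Type u} [Group T] (r : ℕ) (ps : List ℕ) {o A n₀ : ℕ} (ho : Nat.card T = o)
    (hA : Nat.card (MulAut T) ∣ A) (hps : ∀ p ∈ r :: ps, p.Prime) (hc : chkP r ps o A n₀ = true) {p n : ℕ}
    (hp : p.Prime) (hd : p ∣ Nat.card T) (hpr : p ≠ r) (hn : n₀ ≤ n) : DeadP p n T := by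
  rw [chkP, Bool.and_eq_true, Bool.and_eq_true, Nat.beq_eq] at hc
  obtain ⟨h1, h2, h3⟩ := hc
  have h2' := Nat.le_of_ble_eq_true h2
  rw [ho] at hd
  have h4 : p ∈ ps := by
    rcases List.mem_cons.1 (mem_of_strAll hp (r :: ps) o hps h1 hd) with h | h
    · exact absurd h hpr
    · exact h
  rw [List.all_eq_true] at h3
  intro k m h hk hcp
  rw [ho] at hcp
  exact oneP_spec hp h2' (h3 p h4) hn hk (CP.of_dvd hA hcp)

/-- the search for one prime and one `n` -/
def one1 (o A n p : ℕ) : Bool :=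
  let s := strp p 400 0 A
  Nat.beq A (p ^ s.1 * s.2) && (Nat.blt 0 s.2 && loopK [] p o A (2 * s.2 ^ 2) n 400 4000 p)

theorem one1_spec {o A n p : ℕ} (hp : p.Prime) (h3 : 3 ≤ n) (h1 : one1 o A n p = true)
    {k m h : ℕ} (hk : 1 ≤ k) : ¬ CP o A n (p ^ k) m h := by
  intro hc
  rw [one1, Bool.and_eq_true, Bool.and_eq_true, Nat.beq_eq, Nat.blt_eq] at h1
  obtain ⟨h2, h4, h5⟩ := h1
  have := loopK_spec hp h2 h4 h3 4000 1 le_rfl (by rwa [pow_one]) k m h hk hc
  exact absurd this List.not_mem_nil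

/-- one prime `p`, a list of degrees -/
theorem deadP_sieve1 {T : Type u} [Group T] {p : ℕ} (ns : List ℕ) {o A : ℕ} (ho : Nat.card T = o)
    (hA : Nat.card (MulAut T) ∣ A) (hp : p.Prime) (h3 : ns.all (Nat.ble 3) = true)
    (hc : ns.all (fun n => one1 o A n p) = true) {n : ℕ} (hn : n ∈ ns) : DeadP p n T := by
  rw [List.all_eq_true] at hc h3
  intro k m h hk hcp
  rw [ho] at hcp
  exact one1_spec hp (Nat.le_of_ble_eq_true (h3 n hn)) (hc n hn) hk (CP.of_dvd hA hcp)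

end Cfsg.Agent.H337.HT
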