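import Cfsg.Agent.H337.HT.QS

/-!
# S3540, quasisimple rows: from the setting `QS` to the numerical conditions `Cand`
-/

set_option autoImplicit false

universe u w

namespace Cfsg.Agent.H337.HT

open Cfsg.Agent.H828.HT

section half

variable {p : ℕ} [Fact p.Prime] {V : Type u} [AddCommGroup V] [Module (ZMod p) V] [Finite V]
  {G : Subgroup (V ≃ₗ[ZMod p] V)} {h : ℕ}

/-- the sharp form of `H828.HT.card_le` -/
theorem half_le (hG : ¬ p ∣ Nat.card G) (hh : Half G h) (h0 : 0 < h) {m : ℕ} (hm : m * h = Nat.card G) :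
    (h - 1) * Nat.card V ≤ h * m ^ 2 := by
  classical
  have h1 := sum_fx_half hh
  rw [← Finset.add_sum_erase _ _ (Finset.mem_univ (1 : G))] at h1
  have e1 : Nat.card (fx ((1 : G) : V ≃ₗ[ZMod p] V)) = Nat.card V := by
    rw [Subgroup.coe_one, fx_one]
    exact Nat.card_congr Submodule.topEquiv.toEquiv
  rw [e1] at h1
  have h2 : ∑ g ∈ Finset.univ.erase (1 : G), Nat.card (fx (g : V ≃ₗ[ZMod p] V)) ≤
      ∑ _g ∈ Finset.univ.erase (1 : G), (m - 1) := by
    refine Finset.sum_le_sum fun g hg => ?_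
    have := fx_lt hG hh h0 hm (Finset.ne_of_mem_erase hg)
    omega
  rw [Finset.sum_const, Finset.card_erase_of_mem (Finset.mem_univ _), Finset.card_univ,
    ← Nat.card_eq_fintype_card, smul_eq_mul, ← hm] at h2
  rw [← hm] at h1
  have hGpos : 0 < Nat.card G := Nat.card_pos
  rw [← hm] at hGpos
  obtain ⟨k, rfl⟩ : ∃ k, h = k + 1 := ⟨h - 1, by omega⟩
  obtain ⟨j, rfl⟩ : ∃ j, m = j + 1 := ⟨m - 1, by
    have : 0 < m := by
      rcases Nat.eq_zero_or_pos m with rfl | hm0
      · simp at hGpos
      · exact hm0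
    omega⟩
  simp only [Nat.add_sub_cancel] at h2 ⊢
  set N := Nat.card V
  set s := ∑ g ∈ Finset.univ.erase (1 : G), Nat.card (fx (g : V ≃ₗ[ZMod p] V))
  have h3 : (j + 1) * (k + 1) - 1 = j * k + j + k := by
    have : (j + 1) * (k + 1) = j * k + j + k + 1 := by ring
    omega
  rw [h3] at h2
  nlinarith

end half

variable {p : ℕ} [Fact p.Prime] {K : Type w} [Field K] {V : Type u} [AddCommGroup V] [Module (ZMod p) V] [Finite V]
    [Module K V] {G L : Subgroup (V ≃ₗ[ZMod p] V)} {h : ℕ}

namespace QS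

theorem exists_ne (H : QS p K V G L h) : ∃ v : V, v ≠ 0 := by
  obtain ⟨a, -, b, -, hab⟩ := H.nonab
  by_contra hcon
  push Not at hcon
  exact hab (LinearEquiv.ext fun v => by rw [hcon ((a * b) v), hcon ((b * a) v)])

theorem finiteK (H : QS p K V G L h) : Finite K := by
  obtain ⟨v, hv⟩ := H.exists_ne
  exact Finite.of_injective (fun c : K => c • v) fun a b hab => by
    by_contra hne
    have h1 : (a - b) • v = 0 := by rw [sub_smul, sub_eq_zero]; exact hab
    rcases smul_eq_zero.1 h1 with h2 | h2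
    · exact hne (sub_eq_zero.1 h2)
    · exact hv h2

theorem finiteDim (_ : QS p K V G L h) : Module.Finite K V := Module.Finite.of_finite

theorem card_V (_ : QS p K V G L h) : Nat.card V = Nat.card K ^ Module.finrank K V :=
  Module.natCard_eq_pow_finrank

theorem finrank_pos (H : QS p K V G L h) : 0 < Module.finrank K V := by
  have := H.finiteDim
  obtain ⟨v, hv⟩ := H.exists_ne
  have : Nontrivial V := ⟨v, 0, hv⟩
  exact Module.finrank_pos

theorem exists_card (H : QS p K V G L h) : ∃ k, Nat.card K = p ^ k ∧ 0 < k := by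
  have hK := H.finiteK
  have h1 : Nat.card K ∣ p ^ Module.finrank (ZMod p) V := by
    rw [← card_eq_pow (p := p) V, H.card_V]
    exact dvd_pow_self _ H.finrank_pos.ne'
  obtain ⟨k, -, hk⟩ := (Nat.dvd_prime_pow Fact.out).1 h1
  refine ⟨k, hk, Nat.pos_of_ne_zero ?_⟩
  rintro rfl
  have := Finite.one_lt_card (α := K)
  rw [hk, pow_zero] at this
  omega

theorem card_quot_dvd_L (_ : QS p K V G L h) : Nat.card (L ⧸ Subgroup.center L) ∣ Nat.card L :=
  Subgroup.card_quotient_dvd_card _

theorem card_L_dvd (H : QS p K V G L h) : Nat.card L ∣ Nat.card G := Subgroup.card_dvd_of_le H.le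

theorem coprime (H : QS p K V G L h) : (Nat.card K).Coprime (Nat.card (L ⧸ Subgroup.center L)) := by
  obtain ⟨k, hk, -⟩ := H.exists_card
  rw [hk]
  refine Nat.Coprime.pow_left k ((Nat.Prime.coprime_iff_not_dvd Fact.out).2 fun hd => H.cop ?_)
  exact hd.trans (H.card_quot_dvd_L.trans H.card_L_dvd)

theorem two_le_card (H : QS p K V G L h) : 2 ≤ Nat.card K := by
  have := H.finiteK
  exact Finite.one_lt_card

/-! ### The action on `L / Z(L)` -/

theorem normal (H : QS p K V G L h) : (L.subgroupOf G).Normal :=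
  ⟨fun n hn g => H.nrm g g.2 n hn⟩

/-- conjugation of `L` by an element of `G` -/
def cj (H : QS p K V G L h) : G →* MulAut L where
  toFun g :=
    { toFun := fun l => ⟨g * l * g⁻¹, H.nrm g g.2 l l.2⟩
      invFun := fun l => ⟨(g : V ≃ₗ[ZMod p] V)⁻¹ * l * g, by
        have := H.nrm _ (G.inv_mem g.2) l l.2
        rwa [inv_inv] at this⟩
      left_inv := fun l => Subtype.ext (by simp [mul_assoc])
      right_inv := fun l => Subtype.ext (by simp [mul_assoc])
      map_mul' := fun a b => Subtype.ext (by simp [mul_assoc]) }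
  map_one' := by ext l : 2; simp
  map_mul' a b := by ext l : 2; simp [mul_assoc]

@[simp] theorem cj_apply (H : QS p K V G L h) (g : G) (l : L) :
    ((H.cj g l : L) : V ≃ₗ[ZMod p] V) = g * l * (g : V ≃ₗ[ZMod p] V)⁻¹ := rfl

/-- the induced action on `L / Z(L)` -/
def qt : MulAut L →* MulAut (L ⧸ Subgroup.center L) where
  toFun α := QuotientGroup.congr _ _ α (by
    have : (Subgroup.center L).map (α : L →* L) = Subgroup.center L := by
      exact (Subgroup.characteristic_iff_map_eq.1 inferInstance) α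
    exact this)
  map_one' := by
    ext x
    obtain ⟨l, rfl⟩ := QuotientGroup.mk_surjective x
    rfl
  map_mul' a b := by
    ext x
    obtain ⟨l, rfl⟩ := QuotientGroup.mk_surjective x
    rfl

@[simp] theorem qt_mk (α : MulAut L) (l : L) : qt α (l : L ⧸ Subgroup.center L) = (α l : L) := rfl

/-- an automorphism of a perfect group trivial modulo the centre is trivial -/
theorem eq_one_of_qt (hP : commutator L = ⊤) {α : MulAut L} (hα : qt α = 1) : α = 1 := by
  have hz : ∀ l : L, α l * l⁻¹ ∈ Subgroup.center L := by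
    intro l
    have h1 : qt α (l : L ⧸ Subgroup.center L) = l := by rw [hα]; rfl
    rw [qt_mk, QuotientGroup.eq] at h1
    have h2 := (Subgroup.center L).inv_mem h1
    rw [mul_inv_rev, inv_inv] at h2
    have h3 : α l * l⁻¹ = l * (l⁻¹ * α l) * l⁻¹ := by group
    rw [h3]
    exact (inferInstance : (Subgroup.center L).Normal).conj_mem _ h2 l
  let z : L →* Subgroup.center L :=
    { toFun := fun l => ⟨α l * l⁻¹, hz l⟩
      map_one' := Subtype.ext (by simp)
      map_mul' := fun a b => Subtype.ext (by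
        change α (a * b) * (a * b)⁻¹ = α a * a⁻¹ * (α b * b⁻¹)
        have h1 := Subgroup.mem_center_iff.1 (hz b) a⁻¹
        calc α (a * b) * (a * b)⁻¹ = α a * (α b * b⁻¹ * a⁻¹) := by rw [map_mul]; group
          _ = α a * (a⁻¹ * (α b * b⁻¹)) := by rw [h1]
          _ = _ := by group) }
  have hk : z.ker = ⊤ := by
    rw [eq_top_iff, ← hP]
    rw [commutator_def, Subgroup.commutator_le]
    intro a _ b _
    rw [MonoidHom.mem_ker, map_commutatorElement, commutatorElement_eq_one_iff_mul_comm]
    exact Subtype.ext (Subgroup.mem_center_iff.1 (z b).2 _)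
  ext1 l
  have h1 : z l = 1 := by
    rw [← MonoidHom.mem_ker, hk]; trivial
  have h2 : α l * l⁻¹ = 1 := congrArg Subtype.val h1
  rw [MulAut.one_apply]
  exact mul_inv_eq_one.1 h2

/-- elements of `G` acting trivially on `L / Z(L)` are scalars -/
theorem scalar_of_qt (H : QS p K V G L h) {g : G} (hg : qt (H.cj g) = 1) : ∃ c : K, ∀ v, (g : V ≃ₗ[ZMod p] V) v = c • v := by
  have h1 := eq_one_of_qt H.perf hg
  refine H.endo (g : V ≃ₗ[ZMod p] V) fun l hl v => ?_
  have h2 : H.cj g ⟨l, hl⟩ = ⟨l, hl⟩ := by rw [h1]; rfl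
  have h3 : (g : V ≃ₗ[ZMod p] V) * l * (g : V ≃ₗ[ZMod p] V)⁻¹ = l := congrArg Subtype.val h2
  have h4 : (g : V ≃ₗ[ZMod p] V) * l = l * g := by rw [← mul_inv_eq_iff_eq_mul]; exact h3
  exact LinearEquiv.congr_fun h4 v

/-- scalars as `𝔽_p`-linear automorphisms -/
def sc : Kˣ →* (V ≃ₗ[ZMod p] V) where
  toFun c :=
    { toFun := fun v => (c : K) • v
      map_add' := fun v w => smul_add _ _ _
      map_smul' := fun a v => by
        exact ZMod.map_smul (DistribMulAction.toAddMonoidHom V (c : K)) a v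
      invFun := fun v => ((c⁻¹ : Kˣ) : K) • v
      left_inv := fun v => by simp [smul_smul]
      right_inv := fun v => by simp [smul_smul] }
  map_one' := by ext v; simp
  map_mul' a b := by
    ext v
    change ((a * b : Kˣ) : K) • v = (a : K) • (b : K) • v
    rw [Units.val_mul, mul_smul]

@[simp] theorem sc_apply (c : Kˣ) (v : V) : (sc (p := p) c : V ≃ₗ[ZMod p] V) v = (c : K) • v := rfl

theorem card_G_dvd (H : QS p K V G L h) :
    Nat.card G ∣ (Nat.card K - 1) * Nat.card (MulAut (L ⧸ Subgroup.center L)) := by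
  have hK := H.finiteK
  set f : G →* MulAut (L ⧸ Subgroup.center L) := qt.comp H.cj with hf
  have h1 : Nat.card G = Nat.card f.ker * Nat.card f.range := by
    rw [← Subgroup.index_ker f, mul_comm, Subgroup.index_mul_card]
  rw [h1]
  refine Nat.mul_dvd_mul ?_ (Subgroup.card_subgroup_dvd_card _)
  have h2 : Nat.card f.ker = Nat.card (f.ker.map G.subtype) :=
    Nat.card_congr (f.ker.equivMapOfInjective _ G.subtype_injective).toEquiv
  have h3 : f.ker.map G.subtype ≤ (sc (p := p) (K := K) (V := V)).range := by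
    rintro _ ⟨g, hg, rfl⟩
    obtain ⟨c, hc⟩ := H.scalar_of_qt (g := g) hg
    have hc0 : c ≠ 0 := by
      rintro rfl
      obtain ⟨v, hv⟩ := H.exists_ne
      apply hv
      have h4 := hc v
      rw [zero_smul] at h4
      exact (g : V ≃ₗ[ZMod p] V).map_eq_zero_iff.1 h4
    exact ⟨Units.mk0 c hc0, LinearEquiv.ext fun v => by rw [sc_apply]; exact (hc v).symm⟩
  have h4 : Nat.card (sc (p := p) (K := K) (V := V)).range ∣ Nat.card Kˣ := Subgroup.card_range_dvd _
  rw [h2, ← Nat.card_units]
  exact (Subgroup.card_dvd_of_le h3).trans h4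

/-- **The numerical conditions.** -/
theorem cand (H : QS p K V G L h) {R : ℕ} (hR : R ∣ h) :
    Cand R (Nat.card (L ⧸ Subgroup.center L)) (Nat.card (MulAut (L ⧸ Subgroup.center L)))
      (Module.finrank K V) (Nat.card K) := by
  obtain ⟨m, hm, -⟩ := exists_m H.half H.exists_ne
  have h0 : 0 < h := by have := H.two_le; omega
  refine ⟨m, h, hR, H.two_le, ?_, ?_, ?_, ?_⟩
  · rw [← H.card_V]
    exact dvd_card_sub_one H.half h0 hm
  · rw [hm]
    exact H.card_quot_dvd_L.trans H.card_L_dvd
  · rw [hm]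
    exact H.card_G_dvd
  · rw [← H.card_V]
    exact half_le H.cop H.half h0 hm

/-- a `Dead` simple quotient does not occur -/
theorem not_dead (H : QS p K V G L h) (hd : Dead (Module.finrank K V) (L ⧸ Subgroup.center L)) : False :=
  hd _ H.two_le_card H.coprime (H.cand (one_dvd _))

end QS

end Cfsg.Agent.H337.HT
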