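import Cfsg.Agent.H828.HT.Basic
import Cfsg.Agent.H337.HT.Num

/-!
# S3540, quasisimple rows: the setting

`QS p K V G L h`: `G` is a half-transitive `p'`-group of `𝔽_p`-linear maps of `V` with stabilisers of order `h ≥ 2`,
`L ⊴ G` is quasisimple, acts irreducibly on `V` over `𝔽_p`, and the field `K` is the centraliser of `L` in
`End_{𝔽_p}(V)`.  The goal of the quasisimple part is `Module.finrank K V = 2`.
-/

set_option autoImplicit false

universe u w

namespace Cfsg.Agent.H337.HT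

open Cfsg.Agent.H828.HT

/-- the setting of the quasisimple rows -/
structure QS (p : ℕ) [Fact p.Prime] (K : Type w) [Field K] (V : Type u) [AddCommGroup V] [Module (ZMod p) V]
    [Module K V] (G L : Subgroup (V ≃ₗ[ZMod p] V)) (h : ℕ) : Prop where
  half : Half G h
  two_le : 2 ≤ h
  cop : ¬ p ∣ Nat.card G
  le : L ≤ G
  nrm : ∀ g ∈ G, ∀ l ∈ L, g * l * g⁻¹ ∈ L
  perf : commutator L = ⊤
  simple : IsSimpleGroup (L ⧸ Subgroup.center L)
  nonab : ∃ a ∈ L, ∃ b ∈ L, a * b ≠ b * a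
  lin : ∀ l ∈ L, ∀ (c : K) (v : V), l (c • v) = c • l v
  endo : ∀ f : V →ₗ[ZMod p] V, (∀ l ∈ L, ∀ v, f (l v) = l (f v)) → ∃ c : K, ∀ v, f v = c • v
  irr : ∀ W : Submodule (ZMod p) V, (∀ l ∈ L, ∀ v ∈ W, l v ∈ W) → W = ⊥ ∨ W = ⊤

end Cfsg.Agent.H337.HT
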