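import Cfsg.Agent.H348.HT.Psl
import Cfsg.Agent.H930.HT.DeadPsu
import Cfsg.Agent.H530.HT.PSp
import Cfsg.Agent.H138.HT.Alt
import Cfsg.Agent.H119.HT.SporA
import Cfsg.Agent.H119.HT.SporB
import Cfsg.Agent.H744.HT.Chev
import Cfsg.Agent.H4.HT.Spor
import Cfsg.Agent.H79.HT.OMinus
import Cfsg.Agent.H576.HT.Omega
import Cfsg.Agent.H638.HT.TwDead

/-!
# S3540, quasisimple rows: degree at least `13`

`dead_big`: a core of degree `n ≥ 13` whose socle is a known simple group of order prime to `p` has no numerical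
candidate, the alternating groups of degree at least `21` excepted (they are in `H926/HT/AltBig`).
-/

set_option autoImplicit false

universe u

namespace Cfsg.Agent.H337.HT

open Cfsg Cfsg.Agent.H915.LD

theorem dead_spor {F : Type u} [Field F] [Finite F] {n p : ℕ} [Fact p.Prime] [CharP F p]
    {P : Subgroup (Matrix.GeneralLinearGroup (Fin n) F)} (hC : Core P) (hn : 13 ≤ n) (hp : ¬ p ∣ Nat.card (Soc P))
    (hT : IsSporadicGroup (Soc P)) : Dead n (Soc P) := by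
  rcases hT with h | h | h | h | h | h | h | h | h | h | h | h | h | h | h | h | h | h | h | h | h | h | h | h | h | h
  · exact H4.HT.dead_spor₁ hC hn hp (by tauto)
  · exact H4.HT.dead_spor₁ hC hn hp (by tauto)
  · exact H4.HT.dead_spor₁ hC hn hp (by tauto)
  · exact H4.HT.dead_spor₁ hC hn hp (by tauto)
  · exact H4.HT.dead_spor₁ hC hn hp (by tauto)
  · exact H4.HT.dead_spor₁ hC hn hp (by tauto)
  · exact H4.HT.dead_spor₁ hC hn hp (by tauto)
  · exact H4.HT.dead_spor₁ hC hn hp (by tauto)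
  · exact H4.HT.dead_spor₁ hC hn hp (by tauto)
  · exact H119.HT.dead_spor₂ hC hn (by tauto)
  · exact H119.HT.dead_spor₂ hC hn (by tauto)
  · exact H119.HT.dead_spor₂ hC hn (by tauto)
  · exact H119.HT.dead_spor₂ hC hn (by tauto)
  · exact H119.HT.dead_spor₂ hC hn (by tauto)
  · exact H119.HT.dead_spor₂ hC hn (by tauto)
  · exact H119.HT.dead_spor₂ hC hn (by tauto)
  · exact H119.HT.dead_spor₂ hC hn (by tauto)
  · exact H119.HT.dead_spor₂ hC hn (by tauto)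
  · exact H119.HT.dead_spor₃ hC hn hp (by tauto)
  · exact H119.HT.dead_spor₃ hC hn hp (by tauto)
  · exact H119.HT.dead_spor₃ hC hn hp (by tauto)
  · exact H119.HT.dead_spor₃ hC hn hp (by tauto)
  · exact H119.HT.dead_spor₃ hC hn hp (by tauto)
  · exact H119.HT.dead_spor₃ hC hn hp (by tauto)
  · exact H119.HT.dead_spor₃ hC hn hp (by tauto)
  · exact H119.HT.dead_spor₃ hC hn hp (by tauto)

theorem dead_exc {F : Type u} [Field F] [Finite F] {n p : ℕ} [Fact p.Prime] [CharP F p]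
    {P : Subgroup (Matrix.GeneralLinearGroup (Fin n) F)} (hC : Core P) (hn : 13 ≤ n) (hp : ¬ p ∣ Nat.card (Soc P))
    (hT : IsExceptionalLieType (Soc P)) : Dead n (Soc P) := by
  rcases hT with ⟨k, i1, i2, hk, h⟩ | ⟨k, i1, i2, h⟩ | ⟨k, i1, i2, h⟩ | ⟨k, i1, i2, h⟩ | ⟨k, i1, i2, h⟩ |
    ⟨k, i1, i2, q, hq, hk, h⟩ | ⟨k, i1, i2, q, hq, hk, h⟩ | h | h | h | h
  · obtain ⟨r, hr⟩ := CharP.exists k
    exact H744.HT.dead_chev hC hn hp r ⟨k, i1, i2, hr, Or.inl ⟨hk, h⟩⟩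
  · obtain ⟨r, hr⟩ := CharP.exists k
    exact H744.HT.dead_chev hC hn hp r ⟨k, i1, i2, hr, Or.inr (Or.inl h)⟩
  · obtain ⟨r, hr⟩ := CharP.exists k
    exact H744.HT.dead_chev hC hn hp r ⟨k, i1, i2, hr, Or.inr (Or.inr (Or.inl h))⟩
  · obtain ⟨r, hr⟩ := CharP.exists k
    exact H744.HT.dead_chev hC hn hp r ⟨k, i1, i2, hr, Or.inr (Or.inr (Or.inr (Or.inl h)))⟩
  · obtain ⟨r, hr⟩ := CharP.exists k
    exact H744.HT.dead_chev hC hn hp r ⟨k, i1, i2, hr, Or.inr (Or.inr (Or.inr (Or.inr h)))⟩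
  · obtain ⟨r, hr⟩ := CharP.exists k
    exact H638.HT.dead_twisted hC hn hp (Or.inl ⟨r, k, i1, i2, hr, q, hq, Or.inl ⟨hk, h⟩⟩)
  · obtain ⟨r, hr⟩ := CharP.exists k
    exact H638.HT.dead_twisted hC hn hp (Or.inl ⟨r, k, i1, i2, hr, q, hq, Or.inr ⟨hk, h⟩⟩)
  · exact H638.HT.dead_twisted hC hn hp (Or.inr (Or.inl h))
  · exact H638.HT.dead_twisted hC hn hp (Or.inr (Or.inr (Or.inr (Or.inl h))))
  · exact H638.HT.dead_twisted hC hn hp (Or.inr (Or.inr (Or.inl h)))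
  · exact H638.HT.dead_twisted hC hn hp (Or.inr (Or.inr (Or.inr (Or.inr h))))

/-- **degree at least `13`** -/
theorem dead_big {F : Type u} [Field F] [Finite F] {n p : ℕ} [Fact p.Prime] [CharP F p]
    {P : Subgroup (Matrix.GeneralLinearGroup (Fin n) F)} (hC : Core P) (hn : 13 ≤ n) (hp : ¬ p ∣ Nat.card (Soc P))
    (hk : IsKnownSimple' (Soc P)) (hna : ¬ (Nat.card (Soc P)).Prime) :
    Dead n (Soc P) ∨ ∃ m, 21 ≤ m ∧ Nonempty (Soc P ≃* alternatingGroup (Fin m)) := by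
  rcases hk with h | ⟨m, hm, ⟨e⟩⟩ | h | h | h | h | h | h | h | h
  · exact absurd h hna
  · rcases Nat.lt_or_ge m 21 with h5 | h5
    · exact Or.inl (H138.HT.dead_alt_small hn hm (by omega) e)
    · exact Or.inr ⟨m, h5, ⟨e⟩⟩
  · exact Or.inl (H348.HT.dead_psl hC hn hp h)
  · exact Or.inl (H530.HT.dead_psp hC hn hp h)
  · exact Or.inl (H930.HT.dead_psu hC hn hp h)
  · exact Or.inl (H576.HT.dead_omega_odd hC hn hp h)
  · exact Or.inl (H576.HT.dead_omega_plus hC hn hp h)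
  · exact Or.inl (H79.HT.dead_omega_minus hC hn hp h)
  · exact Or.inl (dead_exc hC hn hp h)
  · exact Or.inl (dead_spor hC hn hp h)

end Cfsg.Agent.H337.HT
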