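import Cfsg.Agent.H337.HT.NumP

/-!
# S3512: the searches for `n ≥ 13`, groups of Lie type (all other groups of Lie type are excluded by size)

`chkP r ps o A n₀`: `o = |T|`, `A = |Aut T|`, defining characteristic `r`.
-/

set_option autoImplicit false
set_option maxRecDepth 100000

namespace Cfsg.Agent.H337.HT.TabP

open Cfsg.Agent.H337.HT

/-- PSL3(2), `n ≥ 13` -/
theorem psl3_2 : chkP 2 [3, 7] 168 336 13 = true := by decide +kernel

/-- PSL4(2), `n ≥ 13` -/
theorem psl4_2 : chkP 2 [3, 5, 7] 20160 40320 13 = true := by decide +kernel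

/-- PSL5(2), `n ≥ 15` -/
theorem psl5_2 : chkP 2 [3, 5, 7, 31] 9999360 19998720 15 = true := by decide +kernel

/-- PSL6(2), `n ≥ 31` -/
theorem psl6_2 : chkP 2 [3, 5, 7, 31] 20158709760 40317419520 31 = true := by decide +kernel

/-- PSL7(2), `n ≥ 63` -/
theorem psl7_2 : chkP 2 [3, 5, 7, 31, 127] 163849992929280 327699985858560 63 = true := by decide +kernel

/-- PSU4(2), `n ≥ 13` -/
theorem psu4_2 : chkP 2 [3, 5] 25920 51840 13 = true := by decide +kernel

/-- PSU5(2), `n ≥ 13` -/
theorem psu5_2 : chkP 2 [3, 5, 11] 13685760 27371520 13 = true := by decide +kernel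

/-- PSU6(2), `n ≥ 16` -/
theorem psu6_2 : chkP 2 [3, 5, 7, 11] 9196830720 55180984320 16 = true := by decide +kernel

/-- PSU7(2), `n ≥ 32` -/
theorem psu7_2 : chkP 2 [3, 5, 7, 11, 43] 227787103272960 455574206545920 32 = true := by decide +kernel

/-- PSU8(2), `n ≥ 64` -/
theorem psu8_2 : chkP 2 [3, 5, 7, 11, 17, 43] 7434971050829414400 14869942101658828800 64 = true := by decide +kernel

/-- PSp6(2), `n ≥ 13` -/
theorem psp6_2 : chkP 2 [3, 5, 7] 1451520 1451520 13 = true := by decide +kernel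

/-- PSp8(2), `n ≥ 15` -/
theorem psp8_2 : chkP 2 [3, 5, 7, 17] 47377612800 47377612800 15 = true := by decide +kernel

/-- PSp10(2), `n ≥ 31` -/
theorem psp10_2 : chkP 2 [3, 5, 7, 11, 17, 31] 24815256521932800 24815256521932800 31 = true := by decide +kernel

/-- PSp12(2), `n ≥ 63` -/
theorem psp12_2 : chkP 2 [3, 5, 7, 11, 13, 17, 31] 208114637736580743168000 208114637736580743168000 63 = true := by decide +kernel

/-- PSp14(2), `n ≥ 127` -/
theorem psp14_2 : chkP 2 [3, 5, 7, 11, 13, 17, 31, 43, 127] 27930968965434591767112450048000 27930968965434591767112450048000 127 = true := by decide +kernel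

/-- PO+8(2), `n ≥ 13` -/
theorem pop8_2 : chkP 2 [3, 5, 7] 174182400 1045094400 13 = true := by decide +kernel

/-- PO-8(2), `n ≥ 14` -/
theorem pom8_2 : chkP 2 [3, 5, 7, 17] 197406720 394813440 14 = true := by decide +kernel

/-- PO+10(2), `n ≥ 15` -/
theorem pop10_2 : chkP 2 [3, 5, 7, 17, 31] 23499295948800 46998591897600 15 = true := by decide +kernel

/-- PO-10(2), `n ≥ 14` -/
theorem pom10_2 : chkP 2 [3, 5, 7, 11, 17] 25015379558400 50030759116800 14 = true := by decide +kernel

/-- PO+12(2), `n ≥ 31` -/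
theorem pop12_2 : chkP 2 [3, 5, 7, 11, 17, 31] 50027557148216524800 100055114296433049600 31 = true := by decide +kernel

/-- PO-12(2), `n ≥ 15` -/
theorem pom12_2 : chkP 2 [3, 5, 7, 11, 13, 17, 31] 51615733565620224000 103231467131240448000 15 = true := by decide +kernel

/-- PO+14(2), `n ≥ 63` -/
theorem pop14_2 : chkP 2 [3, 5, 7, 11, 13, 17, 31, 127] 1691555775522928280469504000 3383111551045856560939008000 63 = true := by decide +kernel

/-- PO-14(2), `n ≥ 31` -/
theorem pom14_2 : chkP 2 [3, 5, 7, 11, 13, 17, 31, 43] 1718194449153210615595008000 3436388898306421231190016000 31 = true := by decide +kernel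

/-- PO+16(2), `n ≥ 127` -/
theorem pop16_2 : chkP 2 [3, 5, 7, 11, 13, 17, 31, 43, 127] 911666827031785075278550369566720000 1823333654063570150557100739133440000 127 = true := by decide +kernel

/-- PO-16(2), `n ≥ 63` -/
theorem pom16_2 : chkP 2 [3, 5, 7, 11, 13, 17, 31, 43, 127, 257] 918817155086936330770931156779008000 1837634310173872661541862313558016000 63 = true := by decide +kernel

/-- PO-18(2), `n ≥ 127` -/
theorem pom18_2 : chkP 2 [3, 5, 7, 11, 13, 17, 19, 31, 43, 127, 257] 7877103854727828347931810809383874168094720000 15754207709455656695863621618767748336189440000 127 = true := by decide +kernel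

/-- F4(2), `n ≥ 16` -/
theorem f4_2 : chkP 2 [3, 5, 7, 13, 17] 3311126603366400 6622253206732800 16 = true := by decide +kernel

/-- 2E6(2), `n ≥ 16` -/
theorem t2e6_2 : chkP 2 [3, 5, 7, 11, 13, 17, 19] 76532479683774853939200 459194878102649123635200 16 = true := by decide +kernel

/-- 3D4(2), `n ≥ 16` -/
theorem t3d4_2 : chkP 2 [3, 7, 13] 211341312 634023936 16 = true := by decide +kernel

/-- PSL3(3), `n ≥ 13` -/
theorem psl3_3 : chkP 3 [2, 13] 5616 11232 13 = true := by decide +kernel

/-- PSL4(3), `n ≥ 26` -/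
theorem psl4_3 : chkP 3 [2, 5, 13] 6065280 24261120 26 = true := by decide +kernel

/-- PSL5(3), `n ≥ 80` -/
theorem psl5_3 : chkP 3 [2, 5, 11, 13] 237783237120 475566474240 80 = true := by decide +kernel

/-- PSU3(3), `n ≥ 13` -/
theorem psu3_3 : chkP 3 [2, 7] 6048 12096 13 = true := by decide +kernel

/-- PSU4(3), `n ≥ 13` -/
theorem psu4_3 : chkP 3 [2, 5, 7] 3265920 26127360 13 = true := by decide +kernel

/-- PSU5(3), `n ≥ 54` -/
theorem psu5_3 : chkP 3 [2, 5, 7, 61] 258190571520 516381143040 54 = true := by decide +kernel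

/-- PSp6(3), `n ≥ 13` -/
theorem psp6_3 : chkP 3 [2, 5, 7, 13] 4585351680 9170703360 13 = true := by decide +kernel

/-- PSp8(3), `n ≥ 40` -/
theorem psp8_3 : chkP 3 [2, 5, 7, 13, 41] 65784756654489600 131569513308979200 40 = true := by decide +kernel

/-- PSp10(3), `n ≥ 121` -/
theorem psp10_3 : chkP 3 [2, 5, 7, 11, 13, 41, 61] 76457792934119864313446400 152915585868239728626892800 121 = true := by decide +kernel

/-- PO7(3), `n ≥ 26` -/
theorem po7_3 : chkP 3 [2, 5, 7, 13] 4585351680 9170703360 26 = true := by decide +kernel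

/-- PO9(3), `n ≥ 26` -/
theorem po9_3 : chkP 3 [2, 5, 7, 13, 41] 65784756654489600 131569513308979200 26 = true := by decide +kernel

/-- PO11(3), `n ≥ 80` -/
theorem po11_3 : chkP 3 [2, 5, 7, 11, 13, 41, 61] 76457792934119864313446400 152915585868239728626892800 80 = true := by decide +kernel

/-- PO13(3), `n ≥ 242` -/
theorem po13_3 : chkP 3 [2, 5, 7, 11, 13, 41, 61, 73] 7197966128645938515382156481789952000 14395932257291877030764312963579904000 242 = true := by decide +kernel

/-- PO+8(3), `n ≥ 26` -/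
theorem pop8_3 : chkP 3 [2, 5, 7, 13] 4952179814400 118852315545600 26 = true := by decide +kernel

/-- PO-8(3), `n ≥ 26` -/
theorem pom8_3 : chkP 3 [2, 5, 7, 13, 41] 10151968619520 81215748956160 26 = true := by decide +kernel

/-- PO+10(3), `n ≥ 80` -/
theorem pop10_3 : chkP 3 [2, 5, 7, 11, 13, 41] 1289512799941305139200 5158051199765220556800 80 = true := by decide +kernel

/-- PO-10(3), `n ≥ 26` -/
theorem pom10_3 : chkP 3 [2, 5, 7, 13, 41, 61] 650084965259666227200 5200679722077329817600 26 = true := by decide +kernel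

/-- PO-12(3), `n ≥ 80` -/
theorem pom12_3 : chkP 3 [2, 5, 7, 11, 13, 41, 61, 73] 13562847888583522730562256896000 108502783108668181844498055168000 80 = true := by decide +kernel

/-- PO-14(3), `n ≥ 242` -/
theorem pom14_3 : chkP 3 [2, 5, 7, 11, 13, 41, 61, 73, 547] 5740565134714480760418669730296013258752000 45924521077715846083349357842368106070016000 242 = true := by decide +kernel

/-- G2(3), `n ≥ 14` -/
theorem g2_3 : chkP 3 [2, 7, 13] 4245696 8491392 14 = true := by decide +kernel

/-- F4(3), `n ≥ 162` -/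
theorem f4_3 : chkP 3 [2, 5, 7, 13, 41, 73] 5734420792816671844761600 5734420792816671844761600 162 = true := by decide +kernel

/-- PSL3(4), `n ≥ 13` -/
theorem psl3_4 : chkP 2 [3, 5, 7] 20160 241920 13 = true := by decide +kernel

/-- PSU3(4), `n ≥ 13` -/
theorem psu3_4 : chkP 2 [3, 5, 13] 62400 249600 13 = true := by decide +kernel

/-- PSp4(4), `n ≥ 15` -/
theorem psp4_4 : chkP 2 [3, 5, 17] 979200 3916800 15 = true := by decide +kernel

/-- PO+8(4), `n ≥ 63` -/
theorem pop8_4 : chkP 2 [3, 5, 7, 13, 17] 67010895544320000 804130746531840000 63 = true := by decide +kernel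

/-- PO-8(4), `n ≥ 63` -/
theorem pom8_4 : chkP 2 [3, 5, 7, 13, 17, 257] 67536471195648000 270145884782592000 63 = true := by decide +kernel

/-- PO-10(4), `n ≥ 63` -/
theorem pom10_4 : chkP 2 [3, 5, 7, 13, 17, 41, 257] 1156864092324658937856000000 4627456369298635751424000000 63 = true := by decide +kernel

/-- G2(4), `n ≥ 13` -/
theorem g2_4 : chkP 2 [3, 5, 7, 13] 251596800 503193600 13 = true := by decide +kernel

/-- PSL2(5), `n ≥ 13` -/
theorem psl2_5 : chkP 5 [2, 3] 60 120 13 = true := by decide +kernel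

/-- PSL3(5), `n ≥ 24` -/
theorem psl3_5 : chkP 5 [2, 3, 31] 372000 744000 24 = true := by decide +kernel

/-- PSU3(5), `n ≥ 20` -/
theorem psu3_5 : chkP 5 [2, 3, 7] 126000 756000 20 = true := by decide +kernel

/-- PSp4(5), `n ≥ 13` -/
theorem psp4_5 : chkP 5 [2, 3, 13] 4680000 9360000 13 = true := by decide +kernel

/-- PSp6(5), `n ≥ 62` -/
theorem psp6_5 : chkP 5 [2, 3, 7, 13, 31] 228501000000000 457002000000000 62 = true := by decide +kernel

/-- PO9(5), `n ≥ 124` -/
theorem po9_5 : chkP 5 [2, 3, 7, 13, 31, 313] 6973279267500000000000000 13946558535000000000000000 124 = true := by decide +kernel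

/-- PO+8(5), `n ≥ 124` -/
theorem pop8_5 : chkP 5 [2, 3, 7, 13, 31] 8911539000000000000 213876936000000000000 124 = true := by decide +kernel

/-- PO-8(5), `n ≥ 124` -/
theorem pom8_5 : chkP 5 [2, 3, 7, 13, 31, 313] 17880203250000000000 143041626000000000000 124 = true := by decide +kernel

/-- PO-10(5), `n ≥ 124` -/
theorem pom10_5 : chkP 5 [2, 3, 7, 13, 31, 313, 521] 13624044368878125000000000000000 108992354951025000000000000000000 124 = true := by decide +kernel

/-- G2(5), `n ≥ 20` -/
theorem g2_5 : chkP 5 [2, 3, 7, 31] 5859000000 5859000000 20 = true := by decide +kernel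

/-- PSL2(7), `n ≥ 13` -/
theorem psl2_7 : chkP 7 [2, 3] 168 336 13 = true := by decide +kernel

/-- PSL3(7), `n ≥ 48` -/
theorem psl3_7 : chkP 7 [2, 3, 19] 1876896 11261376 48 = true := by decide +kernel

/-- PSU3(7), `n ≥ 42` -/
theorem psu3_7 : chkP 7 [2, 3, 43] 5663616 11327232 42 = true := by decide +kernel

/-- PSp4(7), `n ≥ 24` -/
theorem psp4_7 : chkP 7 [2, 3, 5] 138297600 276595200 24 = true := by decide +kernel

/-- G2(7), `n ≥ 42` -/
theorem g2_7 : chkP 7 [2, 3, 19, 43] 664376138496 664376138496 42 = true := by decide +kernel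

/-- PSL2(8), `n ≥ 13` -/
theorem psl2_8 : chkP 2 [3, 7] 504 1512 13 = true := by decide +kernel

/-- G2(8), `n ≥ 56` -/
theorem g2_8 : chkP 2 [3, 7, 19, 73] 4329310519296 12987931557888 56 = true := by decide +kernel

/-- PSL2(9), `n ≥ 13` -/
theorem psl2_9 : chkP 3 [2, 5] 360 1440 13 = true := by decide +kernel

/-- PSp4(9), `n ≥ 40` -/
theorem psp4_9 : chkP 3 [2, 5, 41] 1721606400 6886425600 40 = true := by decide +kernel

/-- G2(9), `n ≥ 72` -/
theorem g2_9 : chkP 3 [2, 5, 7, 13, 73] 22594320403200 90377281612800 72 = true := by decide +kernel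

/-- PSL2(11), `n ≥ 13` -/
theorem psl2_11 : chkP 11 [2, 3, 5] 660 1320 13 = true := by decide +kernel

/-- PSp4(11), `n ≥ 60` -/
theorem psp4_11 : chkP 11 [2, 3, 5, 61] 12860654400 25721308800 60 = true := by decide +kernel

/-- PSL2(13), `n ≥ 13` -/
theorem psl2_13 : chkP 13 [2, 3, 7] 1092 2184 13 = true := by decide +kernel

/-- PSL2(16), `n ≥ 15` -/
theorem psl2_16 : chkP 2 [3, 5, 17] 4080 16320 15 = true := by decide +kernel

/-- PSL2(17), `n ≥ 13` -/
theorem psl2_17 : chkP 17 [2, 3] 2448 4896 13 = true := by decide +kernel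

/-- PSL2(19), `n ≥ 13` -/
theorem psl2_19 : chkP 19 [2, 3, 5] 3420 6840 13 = true := by decide +kernel

/-- PSL2(23), `n ≥ 13` -/
theorem psl2_23 : chkP 23 [2, 3, 11] 6072 12144 13 = true := by decide +kernel

/-- PSL2(25), `n ≥ 13` -/
theorem psl2_25 : chkP 5 [2, 3, 13] 7800 31200 13 = true := by decide +kernel

/-- PSL2(27), `n ≥ 13` -/
theorem psl2_27 : chkP 3 [2, 7, 13] 9828 58968 13 = true := by decide +kernel

/-- PSL2(29), `n ≥ 14` -/
theorem psl2_29 : chkP 29 [2, 3, 5, 7] 12180 24360 14 = true := by decide +kernel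

/-- PSL2(31), `n ≥ 15` -/
theorem psl2_31 : chkP 31 [2, 3, 5] 14880 29760 15 = true := by decide +kernel

/-- PSL2(37), `n ≥ 18` -/
theorem psl2_37 : chkP 37 [2, 3, 19] 25308 50616 18 = true := by decide +kernel

/-- PSL2(41), `n ≥ 20` -/
theorem psl2_41 : chkP 41 [2, 3, 5, 7] 34440 68880 20 = true := by decide +kernel

/-- PSL2(43), `n ≥ 21` -/
theorem psl2_43 : chkP 43 [2, 3, 7, 11] 39732 79464 21 = true := by decide +kernel

/-- PSL2(47), `n ≥ 23` -/
theorem psl2_47 : chkP 47 [2, 3, 23] 51888 103776 23 = true := by decide +kernel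

/-- PSL2(49), `n ≥ 24` -/
theorem psl2_49 : chkP 7 [2, 3, 5] 58800 235200 24 = true := by decide +kernel

/-- PSL2(53), `n ≥ 26` -/
theorem psl2_53 : chkP 53 [2, 3, 13] 74412 148824 26 = true := by decide +kernel

/-- PSL2(59), `n ≥ 29` -/
theorem psl2_59 : chkP 59 [2, 3, 5, 29] 102660 205320 29 = true := by decide +kernel

/-- PSL2(61), `n ≥ 30` -/
theorem psl2_61 : chkP 61 [2, 3, 5, 31] 113460 226920 30 = true := by decide +kernel

/-- PSL2(67), `n ≥ 33` -/
theorem psl2_67 : chkP 67 [2, 3, 11, 17] 150348 300696 33 = true := by decide +kernel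

/-- PSL2(71), `n ≥ 35` -/
theorem psl2_71 : chkP 71 [2, 3, 5, 7] 178920 357840 35 = true := by decide +kernel

/-- PSL2(73), `n ≥ 36` -/
theorem psl2_73 : chkP 73 [2, 3, 37] 194472 388944 36 = true := by decide +kernel

/-- PSL2(79), `n ≥ 39` -/
theorem psl2_79 : chkP 79 [2, 3, 5, 13] 246480 492960 39 = true := by decide +kernel

/-- PSL2(81), `n ≥ 40` -/
theorem psl2_81 : chkP 3 [2, 5, 41] 265680 2125440 40 = true := by decide +kernel

/-- PSL2(83), `n ≥ 41` -/
theorem psl2_83 : chkP 83 [2, 3, 7, 41] 285852 571704 41 = true := by decide +kernel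

/-- Sz(8), `n ≥ 13` -/
theorem sz_8 : chkP 2 [5, 7, 13] 29120 87360 13 = true := by decide +kernel

/-- Ree(27), `n ≥ 26` -/
theorem ree_27 : chkP 3 [2, 7, 13, 19, 37] 10073444472 30220333416 26 = true := by decide +kernel

/-- Sz(32), `n ≥ 31` -/
theorem sz_32 : chkP 2 [5, 31, 41] 32537600 162688000 31 = true := by decide +kernel

end Cfsg.Agent.H337.HT.TabP
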