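import Cfsg.Agent.H337.HT.PslP
import Cfsg.Agent.H930.HT.DeadPPsu
import Cfsg.Agent.H530.HT.PSpP
import Cfsg.Agent.H138.HT.AltP
import Cfsg.Agent.H576.HT.OmegaP
import Cfsg.Agent.H79.HT.OMinusP
import Cfsg.Agent.H744.HT.ChevP
import Cfsg.Agent.H744.HT.TwP

/-!
# S3512, quasisimple rows with `p ∣ |L|`: degree at least `13`

`big`: a core of degree `n ≥ 13` in characteristic `p` whose socle is a known simple group of order divisible by `p` not of
Lie type in characteristic `p` has no numerical candidate, the alternating groups of degree at least `9` and the sporadic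
groups excepted (`SporK.spor_tra`).
-/

set_option autoImplicit false

universe u

namespace Cfsg.Agent.H337.HT.BigP

open Cfsg Cfsg.Agent.H915.LD Cfsg.Agent.H337.HT

variable {F : Type u} [Field F] [Finite F] {n p : ℕ} [Fact p.Prime] [CharP F p]
    {P : Subgroup (Matrix.GeneralLinearGroup (Fin n) F)}

theorem exc (hC : Core P) (hn : 13 ≤ n) (hp : p ∣ Nat.card (Soc P)) (hL : ¬ IsLieTypeChar p (Soc P))
    (hT : IsExceptionalLieType (Soc P)) : DeadP p n (Soc P) := by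
  rcases hT with ⟨k, i1, i2, hk, h⟩ | ⟨k, i1, i2, h⟩ | ⟨k, i1, i2, h⟩ | ⟨k, i1, i2, h⟩ | ⟨k, i1, i2, h⟩ |
    ⟨k, i1, i2, q, hq, hk, h⟩ | ⟨k, i1, i2, q, hq, hk, h⟩ | h | h | h | h
  · obtain ⟨r, hr⟩ := CharP.exists k
    exact H744.HT.ChevP.deadP_chev hC hn hp hL r ⟨k, i1, i2, hr, Or.inl ⟨hk, h⟩⟩
  · obtain ⟨r, hr⟩ := CharP.exists k
    exact H744.HT.ChevP.deadP_chev hC hn hp hL r ⟨k, i1, i2, hr, Or.inr (Or.inl h)⟩
  · obtain ⟨r, hr⟩ := CharP.exists k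
    exact H744.HT.ChevP.deadP_chev hC hn hp hL r ⟨k, i1, i2, hr, Or.inr (Or.inr (Or.inl h))⟩
  · obtain ⟨r, hr⟩ := CharP.exists k
    exact H744.HT.ChevP.deadP_chev hC hn hp hL r ⟨k, i1, i2, hr, Or.inr (Or.inr (Or.inr (Or.inl h)))⟩
  · obtain ⟨r, hr⟩ := CharP.exists k
    exact H744.HT.ChevP.deadP_chev hC hn hp hL r ⟨k, i1, i2, hr, Or.inr (Or.inr (Or.inr (Or.inr h)))⟩
  · obtain ⟨r, hr⟩ := CharP.exists k
    exact H744.HT.TwP.deadP_twisted hC hn hp hL (Or.inl ⟨r, k, i1, i2, hr, q, hq, Or.inl ⟨hk, h⟩⟩)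
  · obtain ⟨r, hr⟩ := CharP.exists k
    exact H744.HT.TwP.deadP_twisted hC hn hp hL (Or.inl ⟨r, k, i1, i2, hr, q, hq, Or.inr ⟨hk, h⟩⟩)
  · exact H744.HT.TwP.deadP_twisted hC hn hp hL (Or.inr (Or.inl h))
  · exact H744.HT.TwP.deadP_twisted hC hn hp hL (Or.inr (Or.inr (Or.inr (Or.inl h))))
  · exact H744.HT.TwP.deadP_twisted hC hn hp hL (Or.inr (Or.inr (Or.inl h)))
  · exact H744.HT.TwP.deadP_twisted hC hn hp hL (Or.inr (Or.inr (Or.inr (Or.inr h))))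

theorem not_prime (hC : Core P) : ¬ (Nat.card (Soc P)).Prime := by
  intro h
  apply hC.nonabelian
  have : Fact (Nat.card (Soc P)).Prime := ⟨h⟩
  have hcy : IsCyclic (Soc P) := isCyclic_of_prime_card rfl
  have hcm := hcy.commGroup
  exact ⟨⟨fun a b => by
    obtain ⟨g, hg⟩ := hcy.exists_generator
    obtain ⟨i, rfl⟩ := hg a
    obtain ⟨j, rfl⟩ := hg b
    rw [← zpow_add, ← zpow_add, add_comm]⟩⟩

/-- **degree at least `13`** -/
theorem big (hC : Core P) (hn : 13 ≤ n) (hp : p ∣ Nat.card (Soc P)) (hk : IsKnownSimple' (Soc P))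
    (hL : ¬ IsLieTypeChar p (Soc P)) :
    DeadP p n (Soc P) ∨ (∃ m, 9 ≤ m ∧ Nonempty (Soc P ≃* alternatingGroup (Fin m))) ∨ IsSporadicGroup (Soc P) := by
  rcases hk with h | ⟨m, hm, ⟨e⟩⟩ | h | h | h | h | h | h | h | h
  · exact absurd h (not_prime hC)
  · rcases Nat.lt_or_ge m 9 with h5 | h5
    · exact Or.inl (H138.HT.deadP_alt hn hm (by omega) e Fact.out hp)
    · exact Or.inr (Or.inl ⟨m, h5, ⟨e⟩⟩)
  · exact Or.inl (PslP.deadP_psl hC hn hp hL h)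
  · exact Or.inl (H530.HT.deadP_psp hC hn hp hL h)
  · exact Or.inl (H930.HT.deadP_psu hC hn hp hL h)
  · exact Or.inl (H576.HT.deadP_omega_odd hC hn hp hL h)
  · exact Or.inl (H576.HT.deadP_omega_plus hC hn hp hL h)
  · exact Or.inl (H79.HT.P.deadP_omega_minus hC hn hp hL h)
  · exact Or.inl (exc hC hn hp hL h)
  · exact Or.inr (Or.inr h)

end Cfsg.Agent.H337.HT.BigP
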