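import Cfsg.Agent.H337.HT.NumP
import Cfsg.Agent.H192.Ht.QLN
import Cfsg.Agent.H19.HT.Asm

/-!
# S3512: from `DeadP` to transitivity
-/

set_option autoImplicit false

universe u w

namespace Cfsg.Agent.H337.HT

open Cfsg.Agent.H828.HT Cfsg.Agent.H19.HT

variable {p : ℕ} [Fact p.Prime] {K : Type w} [Field K] {V : Type u} [AddCommGroup V] [Module (ZMod p) V] [Finite V]
    [Module K V] {G L : Subgroup (V ≃ₗ[ZMod p] V)} {h : ℕ}

theorem QSP.ql (H : QSP p K V G L h) : H742.HT.QL p K V G L h :=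
  ⟨H.half, H.le, H.nrm, H.perf, H.simple, H.nonab, H.lin, H.endo, H.irr⟩

/-- no numerical candidate: transitive -/
theorem QSP.tra_of_deadP (H : QSP p K V G L h)
    (hd : DeadP p (Module.finrank K V) (L ⧸ Subgroup.center L)) : Tra G := by
  by_contra hn
  obtain ⟨m, -, hc, -⟩ := H192.Ht.QN.cp (QSP.ql H) H.dvd hn
  obtain ⟨k, hk, hk0⟩ := H192.Ht.QN.exists_card (QSP.ql H)
  rw [hk] at hc
  exact hd k m h hk0 hc

end Cfsg.Agent.H337.HT
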