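import Cfsg.Agent.H337.HT.Big
import Cfsg.Agent.H337.HT.Basics
import Cfsg.Agent.H597.HT12.Twelve
import Cfsg.Agent.OddHalf.Known
import Cfsg.Agent.H267.HT.TOne
import Cfsg.Agent.H926.HT.AltBig
import Cfsg.Agent.H64.HT.Cop
import Cfsg.Agent.H64.HT.Three
import Cfsg.Agent.H337.HT.Three
import Cfsg.Agent.H199.HT.KillJTwo
import Cfsg.Agent.H333.QS6.Six
import Cfsg.Agent.H930.HT.KillU43
import Cfsg.Agent.H933.HT.U33
import Cfsg.Agent.H48.HT.Four
import Cfsg.Agent.H84.HT.UFour
import Cfsg.Agent.H392.HT.SixL34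
import Cfsg.Agent.H30.HTS.Small

/-!
# S3540: the quasisimple rows

`QS.finrank_eq_two`: a half-transitive `p'`-group with stabilisers of order at least `2` and an irreducible normal
quasisimple subgroup `L`, `L / Z(L)` a known simple group, has degree `2` over `End(L)`.
-/

set_option autoImplicit false

universe u w v

namespace Cfsg.Agent.H337.HT

open Cfsg Cfsg.Agent.H915.LD Cfsg.Agent.H828.HT
open scoped commutatorElement

variable {p : ℕ} [hp : Fact p.Prime] {K : Type w} [Field K] {V : Type u} [AddCommGroup V] [Module (ZMod p) V]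
    [Finite V] [Module K V] {G L : Subgroup (V ≃ₗ[ZMod p] V)} {h : ℕ}

theorem isL_congr {m q : ℕ} {T : Type u} {T' : Type v} [Group T] [Group T'] (e : T ≃* T') (h1 : H912.Bd.IsL m q T) :
    H912.Bd.IsL m q T' := by
  obtain ⟨k, i1, i2, hk, ⟨e1⟩⟩ := h1
  exact ⟨k, i1, i2, hk, ⟨e.symm.trans e1⟩⟩

theorem isU_congr {m q : ℕ} {T : Type u} {T' : Type v} [Group T] [Group T'] (e : T ≃* T') (h1 : H912.Bd.IsU m q T) :
    H912.Bd.IsU m q T' := by
  obtain ⟨k, i1, i2, hk, ⟨e1⟩⟩ := h1
  exact ⟨k, i1, i2, hk, ⟨e.symm.trans e1⟩⟩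

omit [Finite V] in
theorem QS.not_comm (H : QS p K V G L h) : ¬ IsMulCommutative (L ⧸ Subgroup.center L) := by
  intro hc
  have h1 : commutator L ≤ Subgroup.center L := by
    rw [commutator_def, Subgroup.commutator_le]
    intro a _ b _
    have h2 : ((⁅a, b⁆ : L) : L ⧸ Subgroup.center L) = 1 := by
      have h3 := hc.is_comm.comm (a : L ⧸ Subgroup.center L) (b : L ⧸ Subgroup.center L)
      rw [commutatorElement_def, QuotientGroup.mk_mul, QuotientGroup.mk_mul, QuotientGroup.mk_mul, h3]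
      simp
    exact (QuotientGroup.eq_one_iff _).1 h2
  rw [H.perf] at h1
  obtain ⟨a, ha, b, hb, hab⟩ := H.nonab
  have h4 := Subgroup.mem_center_iff.1 (h1 (Subgroup.mem_top (⟨a, ha⟩ : L))) ⟨b, hb⟩
  exact hab (Subtype.ext_iff.1 h4).symm

/-- **the quasisimple case**: the degree over `K` is `2` -/
theorem QS.finrank_eq_two (hk : IsKnownSimple' (L ⧸ Subgroup.center L)) (H : QS p K V G L h) :
    Module.finrank K V = 2 := by
  by_contra hne
  have hne1 := H.finrank_ne_one
  have hpos := H.finrank_pos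
  have hsim := H.simple
  obtain ⟨n, hn⟩ : ∃ n, Module.finrank K V = n := ⟨_, rfl⟩
  have hnc := H.not_comm
  have := H.finiteK
  obtain ⟨F, P, -, -, hC, ⟨e⟩, -⟩ := H267.HT.exists_core H hn
  have := H.charP_subfield F
  have : Finite F := inferInstance
  have hnd : ¬ Dead n (Soc P) := fun hd => H.not_dead (hn ▸ hd.congr e)
  have hcop : ¬ p ∣ Nat.card (Soc P) := by
    rw [Nat.card_congr e.toEquiv]
    exact fun hd => H.cop (hd.trans (H.card_quot_dvd_L.trans H.card_L_dvd))
  have hkS : IsKnownSimple' (Soc P) := OddHalf.Known.isKnownSimple'_congr e.symm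
    (fun h1 => hnc h1) hk
  rcases Nat.lt_or_ge n 13 with hlt | hge
  · by_cases h3 : n = 3
    · subst h3
      rcases H64.HTCop.three_cop hC hkS hcop with ⟨⟨e1⟩⟩ | ⟨⟨e1⟩⟩ | h1
      · exact Three.kill_three_A5 H hn (e.symm.trans e1)
      · exact Three.kill_three_A6 H hn (e.symm.trans e1)
      · exact Three.kill_three_L27 H hn (isL_congr e h1)
    by_cases h4 : n = 4
    · subst h4
      rcases H64.HTCop.four_cop hC hkS hcop with ⟨⟨e1⟩⟩ | ⟨⟨e1⟩⟩ | ⟨⟨e1⟩⟩ | h1 | h1
      · exact H48.HT.kill_four_A5 H hn (e.symm.trans e1)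
      · exact H48.HT.kill_four_A6 H hn (e.symm.trans e1)
      · exact H48.HT.kill_four_A7 H hn (e.symm.trans e1)
      · exact H48.HT.kill_four_L27 H hn (isL_congr e h1)
      · exact H84.HT.kill_four_U42 H hn (isU_congr e h1)
    by_cases h6 : n = 6
    · subst h6
      rcases H64.HTCop.six_cop hC hkS hcop with h1 | ⟨⟨e1⟩⟩ | h1 | h1 | h1 | h1 | h1 | h1
      · exact hnd h1
      · exact H333.QS6.Six.kill_six_A7 H hn (e.symm.trans e1)
      · exact H333.QS6.Six.kill_six_L27 H hn (isL_congr e h1)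
      · exact H333.QS6.Six.kill_six_L213 H hn (isL_congr e h1)
      · exact H933.HT.kill_six_U33 H hn (isU_congr e h1)
      · exact H392.HT.kill_six_L34 H hn (isL_congr e h1)
      · exact H199.HT.kill_six_J2 H hn (h1.map fun e1 => e.symm.trans e1)
      · exact H930.HT.kill_six_U43 H hn (isU_congr e h1)
    rcases H30.HTS.small hC (by omega) hkS hcop h6 (by omega) with h1 | ⟨h1, h2⟩
    · exact hnd h1
    · exact H597.HT12.kill_twelve H (hn.trans h1) (h2.imp (isL_congr e) (isU_congr e))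
  · have h2 : ¬ (Nat.card (Soc P)).Prime := fun h1 => by
      have := Fact.mk h1
      have h2 : IsCyclic (Soc P) := isCyclic_of_prime_card (p := Nat.card (Soc P)) rfl
      obtain ⟨g, hg⟩ := h2.exists_generator
      have h3 : ∀ a b : Soc P, a * b = b * a := fun a b => by
        obtain ⟨i, rfl⟩ := hg a
        obtain ⟨j, rfl⟩ := hg b
        exact (zpow_mul_comm g i j)
      refine hnc ⟨⟨fun a b => ?_⟩⟩
      obtain ⟨a, rfl⟩ := e.surjective a
      obtain ⟨b, rfl⟩ := e.surjective b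
      rw [← map_mul, ← map_mul, h3]
    rcases dead_big hC hge hcop hkS h2 with h1 | ⟨m, h5, ⟨e1⟩⟩
    · exact hnd h1
    · exact H926.HT.alt_big H h5 (e.symm.trans e1)

end Cfsg.Agent.H337.HT
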