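import Cfsg.Agent.H337.HT.TabP
import Cfsg.Agent.H348.HT.Psl

/-!
# S3512, quasisimple rows with `p ∣ |L|`: `PSL` in cross characteristic, degree at least `13`

From `H348/HT/Psl.lean` (the row of S3540) with the sieves of `H337/HT/{NumP,TabP}.lean`.
-/

set_option autoImplicit false
set_option maxRecDepth 10000

universe u v

namespace Cfsg.Agent.H337.HT.PslP

open Cfsg Cfsg.Agent.H915.LD Cfsg.Agent.H337.HT Cfsg.Agent.H912.Bd Matrix Cfsg.Agent.H348.HT

/-! ### Inequalities -/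

theorem pow7 {k : ℕ} (hk : 53 ≤ k) : 8 * (2 * k + 2) ^ 7 ≤ 2 ^ k := by
  induction k, hk using Nat.le_induction with
  | base => norm_num
  | succ k hk ih =>
    have h1 : (19 * (2 * (k + 1) + 2)) ^ 7 ≤ (20 * (2 * k + 2)) ^ 7 := Nat.pow_le_pow_left (by omega) 7
    rw [mul_pow, mul_pow] at h1
    have h2 : 2 ^ (k + 1) = 2 * 2 ^ k := by rw [← pow_succ']
    rw [h2]
    have h3 : 19 ^ 7 * (8 * (2 * (k + 1) + 2) ^ 7) ≤ 19 ^ 7 * (2 * 2 ^ k) := by
      calc 19 ^ 7 * (8 * (2 * (k + 1) + 2) ^ 7) = 8 * (19 ^ 7 * (2 * (k + 1) + 2) ^ 7) := by ring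
        _ ≤ 8 * (20 ^ 7 * (2 * k + 2) ^ 7) := Nat.mul_le_mul_left _ h1
        _ = 20 ^ 7 * (8 * (2 * k + 2) ^ 7) := by ring
        _ ≤ 20 ^ 7 * 2 ^ k := Nat.mul_le_mul_left _ ih
        _ ≤ 19 ^ 7 * (2 * 2 ^ k) := by
          generalize 2 ^ k = x
          norm_num
          omega
    exact Nat.le_of_mul_le_mul_left h3 (by norm_num)

/-- `PSL₂(s)`, `s ≥ 107` -/
theorem ineq_two {s f n : ℕ} (hs : 107 ≤ s) (hf : f ^ 2 ≤ s) (hn : (s - 1) / 2 ≤ n) :
    2 * (f * (s * (s ^ 2 - 1))) ^ 2 ≤ 2 ^ (n - 2) := by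
  have h1 : (f * (s * (s ^ 2 - 1))) ^ 2 ≤ s ^ 7 := by
    calc (f * (s * (s ^ 2 - 1))) ^ 2 = f ^ 2 * (s * (s ^ 2 - 1)) ^ 2 := by ring
      _ ≤ s * (s * s ^ 2) ^ 2 :=
        Nat.mul_le_mul hf (Nat.pow_le_pow_left (Nat.mul_le_mul_left _ (Nat.sub_le _ _)) 2)
      _ = s ^ 7 := by ring
  have h2 : s ≤ 2 * ((s - 1) / 2) + 2 := by omega
  have h3 : s ^ 7 ≤ (2 * ((s - 1) / 2) + 2) ^ 7 := Nat.pow_le_pow_left h2 7
  have h4 := pow7 (k := (s - 1) / 2) (by omega)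
  have h5 : 2 ^ ((s - 1) / 2) ≤ 2 ^ n := Nat.pow_le_pow_right (by norm_num) (by omega)
  have h6 : 2 ^ n = 4 * 2 ^ (n - 2) := by
    rw [show (4 : ℕ) = 2 ^ 2 by norm_num, ← pow_add]; congr 1; omega
  omega

theorem cube_le {s : ℕ} (hs : 8 ≤ s) : s ^ 3 ≤ 2 ^ (s + 1) := by
  induction s, hs using Nat.le_induction with
  | base => norm_num
  | succ k hk ih =>
    rw [pow_succ 2 (k + 1)]
    nlinarith [Nat.mul_le_mul hk hk, Nat.mul_le_mul hk (Nat.mul_le_mul hk hk)]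

theorem cube_le' {s : ℕ} (hs : 5 ≤ s) : s ^ 3 ≤ 2 ^ (s + 2) := by
  by_cases h : 8 ≤ s
  · exact (cube_le h).trans (Nat.pow_le_pow_right (by norm_num) (by omega))
  · interval_cases s <;> norm_num

theorem ineq_m3 {s : ℕ} (hs : 8 ≤ s) : 2 * s ^ 20 ≤ 2 ^ (s ^ 2 - 3) := by
  have h1 := cube_le hs
  have h2 : (s ^ 3) ^ 20 ≤ (2 ^ (s + 1)) ^ 20 := Nat.pow_le_pow_left h1 20
  have h3 : (2 * s ^ 20) ^ 3 ≤ (2 ^ (s ^ 2 - 3)) ^ 3 := by
    calc (2 * s ^ 20) ^ 3 = 2 ^ 3 * (s ^ 3) ^ 20 := by ring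
      _ ≤ 2 ^ 3 * (2 ^ (s + 1)) ^ 20 := Nat.mul_le_mul_left _ h2
      _ = 2 ^ (3 + (s + 1) * 20) := by rw [← pow_mul, ← pow_add]
      _ ≤ 2 ^ ((s ^ 2 - 3) * 3) := Nat.pow_le_pow_right (by norm_num) (by
        have : 8 * s ≤ s ^ 2 := by nlinarith
        have h4 : s = 8 ∨ 9 ≤ s := by omega
        rcases h4 with rfl | h4
        · norm_num
        · have : 9 * s ≤ s ^ 2 := by nlinarith
          omega)
      _ = _ := by rw [pow_mul]
  exact (Nat.pow_le_pow_iff_left (by norm_num)).1 h3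

theorem exp4 {s j : ℕ} (hs : 5 ≤ s) : (s + 2) * (2 * (j + 4) ^ 2 + 2) + 12 ≤ 3 * s ^ (j + 3) := by
  induction j with
  | zero =>
    have h1 : 5 * 5 * s ≤ s * s * s := Nat.mul_le_mul_right _ (Nat.mul_le_mul hs hs)
    have h2 : s ^ (0 + 3) = s * s * s := by ring
    rw [h2]
    omega
  | succ j ih =>
    have h1 : s ^ (j + 1 + 3) = s * s ^ (j + 3) := by ring
    rw [h1]
    have h2 : 5 * s ^ (j + 3) ≤ s * s ^ (j + 3) := Nat.mul_le_mul_right _ hs
    have h3 : (s + 2) * (2 * (j + 1 + 4) ^ 2 + 2) ≤ (s + 2) * (5 * (2 * (j + 4) ^ 2 + 2)) :=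
      Nat.mul_le_mul_left _ (by nlinarith)
    have h4 : (s + 2) * (5 * (2 * (j + 4) ^ 2 + 2)) = 5 * ((s + 2) * (2 * (j + 4) ^ 2 + 2)) := by ring
    omega

theorem exp3 {j : ℕ} : 5 * (2 * (j + 6) ^ 2 + 2) + 12 ≤ 3 * 3 ^ (j + 5) := by
  induction j with
  | zero => norm_num
  | succ j ih => rw [pow_succ 3 (j + 5)]; nlinarith

theorem exp44 {j : ℕ} : 4 * (2 * (j + 4) ^ 2 + 2) + 11 ≤ 3 * 4 ^ (j + 3) := by
  induction j with
  | zero => norm_num
  | succ j ih => rw [pow_succ 4 (j + 3)]; nlinarith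

theorem exp2 {j : ℕ} : 2 * (2 * (j + 8) ^ 2 + 3) + 9 ≤ 3 * 2 ^ (j + 7) := by
  induction j with
  | zero => norm_num
  | succ j ih => rw [pow_succ 2 (j + 7)]; nlinarith

/-- the exceptional pairs -/
def E : Set (ℕ × ℕ) := {(3, 2), (3, 3), (3, 4), (3, 5), (3, 7), (4, 2), (4, 3), (5, 2), (5, 3), (6, 2), (7, 2)}

theorem pow_ineq {s m : ℕ} (hs : 2 ≤ s) (hm : 3 ≤ m) (h6 : s ≠ 6) (h : (m, s) ∉ E) :
    2 * s ^ (2 * m ^ 2 + 2) ≤ (if s % 2 = 0 ∧ s ≤ 4 then 3 else 2) ^ (s ^ (m - 1) - 3) := by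
  simp only [E, Set.mem_insert_iff, Set.mem_singleton_iff, Prod.mk.injEq, not_or] at h
  by_cases h8 : 5 ≤ s
  · rw [if_neg (by omega)]
    by_cases h3 : m = 3
    · subst h3
      exact ineq_m3 (by omega)
    · obtain ⟨j, rfl⟩ := Nat.exists_eq_add_of_le' (show 4 ≤ m by omega)
      have h1 := cube_le' h8
      have h2 := exp4 (j := j) h8
      have h3 : (2 * s ^ (2 * (j + 4) ^ 2 + 2)) ^ 3 ≤ (2 ^ (s ^ (j + 4 - 1) - 3)) ^ 3 := by
        calc (2 * s ^ (2 * (j + 4) ^ 2 + 2)) ^ 3 = 2 ^ 3 * (s ^ 3) ^ (2 * (j + 4) ^ 2 + 2) := by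
              rw [mul_pow, ← pow_mul, ← pow_mul, mul_comm 3]
          _ ≤ 2 ^ 3 * (2 ^ (s + 2)) ^ (2 * (j + 4) ^ 2 + 2) :=
              Nat.mul_le_mul_left _ (Nat.pow_le_pow_left h1 _)
          _ = 2 ^ (3 + (s + 2) * (2 * (j + 4) ^ 2 + 2)) := by rw [← pow_mul, ← pow_add]
          _ ≤ 2 ^ ((s ^ (j + 4 - 1) - 3) * 3) := Nat.pow_le_pow_right (by norm_num) (by
            have : j + 4 - 1 = j + 3 := by omega
            rw [this]; omega)
          _ = _ := by rw [pow_mul]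
      exact (Nat.pow_le_pow_iff_left (by norm_num)).1 h3
  · have h4 : s = 2 ∨ s = 3 ∨ s = 4 := by omega
    rcases h4 with rfl | rfl | rfl
    · rw [if_pos (by norm_num)]
      obtain ⟨j, rfl⟩ := Nat.exists_eq_add_of_le' (show 8 ≤ m by omega)
      have h2 := exp2 (j := j)
      have h3 : (2 * 2 ^ (2 * (j + 8) ^ 2 + 2)) ^ 3 ≤ (3 ^ (2 ^ (j + 8 - 1) - 3)) ^ 3 := by
        calc (2 * 2 ^ (2 * (j + 8) ^ 2 + 2)) ^ 3 = (2 ^ 3) ^ (2 * (j + 8) ^ 2 + 3) := by
              rw [← pow_succ', ← pow_mul, ← pow_mul]; congr 1; ring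
          _ ≤ (3 ^ 2) ^ (2 * (j + 8) ^ 2 + 3) := Nat.pow_le_pow_left (by norm_num) _
          _ = 3 ^ (2 * (2 * (j + 8) ^ 2 + 3)) := by rw [← pow_mul]
          _ ≤ 3 ^ ((2 ^ (j + 8 - 1) - 3) * 3) := Nat.pow_le_pow_right (by norm_num) (by
            have : j + 8 - 1 = j + 7 := by omega
            rw [this]; omega)
          _ = _ := by rw [pow_mul]
      exact (Nat.pow_le_pow_iff_left (by norm_num)).1 h3
    · rw [if_neg (by norm_num)]
      obtain ⟨j, rfl⟩ := Nat.exists_eq_add_of_le' (show 6 ≤ m by omega)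
      have h2 := exp3 (j := j)
      have h3 : (2 * 3 ^ (2 * (j + 6) ^ 2 + 2)) ^ 3 ≤ (2 ^ (3 ^ (j + 6 - 1) - 3)) ^ 3 := by
        calc (2 * 3 ^ (2 * (j + 6) ^ 2 + 2)) ^ 3 = 2 ^ 3 * (3 ^ 3) ^ (2 * (j + 6) ^ 2 + 2) := by
              rw [mul_pow, ← pow_mul, ← pow_mul, mul_comm 3]
          _ ≤ 2 ^ 3 * (2 ^ 5) ^ (2 * (j + 6) ^ 2 + 2) :=
              Nat.mul_le_mul_left _ (Nat.pow_le_pow_left (by norm_num) _)
          _ = 2 ^ (3 + 5 * (2 * (j + 6) ^ 2 + 2)) := by rw [← pow_mul, ← pow_add]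
          _ ≤ 2 ^ ((3 ^ (j + 6 - 1) - 3) * 3) := Nat.pow_le_pow_right (by norm_num) (by
            have : j + 6 - 1 = j + 5 := by omega
            rw [this]; omega)
          _ = _ := by rw [pow_mul]
      exact (Nat.pow_le_pow_iff_left (by norm_num)).1 h3
    · rw [if_pos (by norm_num)]
      obtain ⟨j, rfl⟩ := Nat.exists_eq_add_of_le' (show 4 ≤ m by omega)
      have h2 := exp44 (j := j)
      have h3 : (2 * 4 ^ (2 * (j + 4) ^ 2 + 2)) ^ 3 ≤ (3 ^ (4 ^ (j + 4 - 1) - 3)) ^ 3 := by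
        calc (2 * 4 ^ (2 * (j + 4) ^ 2 + 2)) ^ 3 = 2 ^ 3 * (4 ^ 3) ^ (2 * (j + 4) ^ 2 + 2) := by
              rw [mul_pow, ← pow_mul, ← pow_mul, mul_comm 3]
          _ ≤ 3 ^ 2 * (3 ^ 4) ^ (2 * (j + 4) ^ 2 + 2) :=
              Nat.mul_le_mul (by norm_num) (Nat.pow_le_pow_left (by norm_num) _)
          _ = 3 ^ (2 + 4 * (2 * (j + 4) ^ 2 + 2)) := by rw [← pow_mul, ← pow_add]
          _ ≤ 3 ^ ((4 ^ (j + 4 - 1) - 3) * 3) := Nat.pow_le_pow_right (by norm_num) (by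
            have : j + 4 - 1 = j + 3 := by omega
            rw [this]; omega)
          _ = _ := by rw [pow_mul]
      exact (Nat.pow_le_pow_iff_left (by norm_num)).1 h3

/-! ### Degree two -/

def prs : List ℕ := [2, 3, 5, 7, 11, 13, 17, 19, 23, 29, 31, 37, 41, 43, 47, 53, 59, 61, 67, 71, 73, 79, 83, 89, 97,
  101, 103, 107, 109, 113, 127]

theorem prs_prime : ∀ p ∈ prs, p.Prime := by
  intro p hp
  simp only [prs, List.mem_cons, List.not_mem_nil, or_false] at hp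
  rcases hp with rfl | rfl | rfl | rfl | rfl | rfl | rfl | rfl | rfl | rfl | rfl | rfl | rfl | rfl | rfl | rfl | rfl |
    rfl | rfl | rfl | rfl | rfl | rfl | rfl | rfl | rfl | rfl | rfl | rfl | rfl | rfl <;> norm_num

def psOf (r o : ℕ) : List ℕ := prs.filter (fun p => Nat.beq (o % p) 0 && !(Nat.beq p r))

/-- the search for `PSL₂(s)`, `s = r ^ f` -/
def chk2 (x : ℕ × ℕ) : Bool :=
  let s := x.1 ^ x.2
  let o := s * (s ^ 2 - 1) / Nat.gcd 2 (s - 1)
  chkP x.1 (psOf x.1 o) o (x.2 * (s * (s ^ 2 - 1))) (max 13 ((s - 1) / Nat.gcd 2 (s - 1)))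

def L2 : List (ℕ × ℕ) := [(2, 2), (2, 3), (2, 4), (2, 5), (2, 6), (3, 2), (3, 3), (3, 4), (5, 1), (5, 2), (7, 1), (7, 2),
  (11, 1), (13, 1), (17, 1), (19, 1), (23, 1), (29, 1), (31, 1), (37, 1), (41, 1), (43, 1), (47, 1), (53, 1), (59, 1),
  (61, 1), (67, 1), (71, 1), (73, 1), (79, 1), (83, 1), (89, 1), (97, 1), (101, 1), (103, 1)]

theorem L2_chk : L2.all chk2 = true := by decide +kernel

def memB (f r : ℕ) : Bool :=
  !(decide (Nat.Prime r) && (Nat.ble 1 f && (Nat.ble 4 (r ^ f) && Nat.blt (r ^ f) 107))) ||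
    L2.any (fun x => Nat.beq x.1 r && Nat.beq x.2 f)

theorem memB_all : ((List.range 7).all fun f => (List.range 107).all fun r => memB f r) = true := by decide +kernel

theorem mem_L2 {f r : ℕ} (hf : f < 7) (hr : r < 107) (hrp : r.Prime) (h1 : 1 ≤ f) (h4 : 4 ≤ r ^ f)
    (h107 : r ^ f < 107) : (r, f) ∈ L2 := by
  have h := memB_all
  rw [List.all_eq_true] at h
  have h2 := h f (List.mem_range.2 hf)
  rw [List.all_eq_true] at h2
  have h3 := h2 r (List.mem_range.2 hr)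
  have h5 : Nat.blt (r ^ f) 107 = true := by rw [Nat.blt_eq]; exact h107
  rw [memB, decide_eq_true hrp, Nat.ble_eq_true_of_le h1, Nat.ble_eq_true_of_le h4, h5] at h3
  simp only [Bool.and_self, Bool.not_true, Bool.false_or, List.any_eq_true, Bool.and_eq_true] at h3
  obtain ⟨x, hx, hx1, hx2⟩ := h3
  rw [Nat.beq_eq] at hx1 hx2
  obtain ⟨a, b⟩ := x
  simp only at hx1 hx2
  subst hx1 hx2
  exact hx

theorem chk2_all {r f : ℕ} (hr : r.Prime) (hf : 1 ≤ f) (h4 : 4 ≤ r ^ f) (h107 : r ^ f < 107) :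
    chk2 (r, f) = true := by
  have hf6 : f < 7 := by
    by_contra hcon
    have h1 : 2 ^ 7 ≤ r ^ f := (Nat.pow_le_pow_left hr.two_le 7).trans (Nat.pow_le_pow_right hr.pos (by omega))
    omega
  have hr107 : r < 107 := by
    have h1 : r ^ 1 ≤ r ^ f := Nat.pow_le_pow_right hr.pos hf
    rw [pow_one] at h1
    omega
  have h1 := L2_chk
  rw [List.all_eq_true] at h1
  exact h1 _ (mem_L2 hf6 hr107 hr hf h4 h107)

section

variable {K : Type} [Field K] [Fintype K]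

theorem deadP_two {p r f n : ℕ} (hp : p.Prime) (hr : r.Prime) (hf : 1 ≤ f) (hK : Fintype.card K = r ^ f)
    (h4 : 4 ≤ r ^ f) (hn : 13 ≤ n) (hb : (r ^ f - 1) / Nat.gcd 2 (r ^ f - 1) ≤ n) (hpr : p ≠ r)
    (hd : p ∣ Nat.card (ProjectiveSpecialLinearGroup (Fin 2) K)) :
    DeadP p n (ProjectiveSpecialLinearGroup (Fin 2) K) := by
  have := finite_psl (K := K) 2
  by_cases h107 : r ^ f < 107
  · have h1 := chk2_all hr hf h4 h107
    refine deadP_sieve r _ (card_two hK) (card_aut_two hr hf hK h4).dvd ?_ h1 hp hd hpr (by simpa using ⟨hn, hb⟩)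
    intro q hq
    rcases List.mem_cons.1 hq with rfl | hq
    · exact hr
    · exact prs_prime q (List.mem_of_mem_filter hq)
  · refine deadP_of_pow (b := 2) (A := f * (r ^ f * ((r ^ f) ^ 2 - 1))) hp (by omega) hp.two_le
      (card_aut_two hr hf hK h4).le Nat.card_pos ?_
    refine ineq_two (by omega) (sq_le_pow hr.two_le (by omega)) ?_
    refine le_trans ?_ hb
    refine Nat.div_le_div_left (Nat.gcd_le_left _ (by norm_num)) (Nat.gcd_pos_of_pos_left _ (by norm_num))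

/-- the small cases -/
theorem deadP_exc {p s r f m n n₀ N A : ℕ} {ps : List ℕ} (hp : p.Prime) (hr : r.Prime) (hf : 1 ≤ f) (hs : s = r ^ f)
    (hs2 : 2 ≤ s) (hK : Fintype.card K = s) (hm : 3 ≤ m)
    (hN : Nat.gcd m (s - 1) * ((s - 1) * N) = ∏ i : Fin m, (s ^ m - s ^ (i : ℕ)))
    (hA : 2 * f * (Nat.gcd m (s - 1) * N) = A)
    (h : chkP r ps N A n₀ = true) (hps : ∀ q ∈ ps, q.Prime) (hn : n₀ ≤ n) (hpr : p ≠ r)
    (hd : p ∣ Nat.card (ProjectiveSpecialLinearGroup (Fin m) K)) :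
    DeadP p n (ProjectiveSpecialLinearGroup (Fin m) K) := by
  have h2 := card_three hK (by omega) hs2 hN
  refine deadP_sieve r ps h2 (A := A) ?_ ?_ h hp hd hpr hn
  · rw [← hA, hs, card_aut_three hr hf (by rw [hK, hs]) hm h2]
  · intro q hq
    rcases List.mem_cons.1 hq with rfl | hq
    · exact hr
    · exact hps q hq

theorem deadP_three {p r f m n : ℕ} (hp : p.Prime) (hr : r.Prime) (hf : 1 ≤ f) (hK : Fintype.card K = r ^ f)
    (hm : 3 ≤ m) (hn : 13 ≤ n)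
    (hb : (m, Fintype.card K) ∉ ({(2, 4), (2, 9), (3, 2), (3, 4), (4, 2)} : Set (ℕ × ℕ)) → (r ^ f) ^ (m - 1) - 1 ≤ n)
    (hpr : p ≠ r) (hd : p ∣ Nat.card (ProjectiveSpecialLinearGroup (Fin m) K)) :
    DeadP p n (ProjectiveSpecialLinearGroup (Fin m) K) := by
  have := finite_psl (K := K) m
  have hs2 : 2 ≤ r ^ f := by rw [← hK]; exact Fintype.one_lt_card
  by_cases hexc : (m, r ^ f) ∈ E
  · simp only [E, Set.mem_insert_iff, Set.mem_singleton_iff, Prod.mk.injEq] at hexc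
    have key : ∀ {q k : ℕ}, q.Prime → k ≠ 0 → r ^ f = q ^ k → r = q ∧ f = k := by
      intro q k hq hk h
      have h1 : q = r := by
        have h2 : q ∣ r ^ f := h ▸ dvd_pow_self q hk
        exact (Nat.prime_dvd_prime_iff_eq hq hr).1 (hq.dvd_of_dvd_pow h2)
      subst h1
      exact ⟨rfl, Nat.pow_right_injective hq.two_le h⟩
    rcases hexc with ⟨rfl, h⟩ | ⟨rfl, h⟩ | ⟨rfl, h⟩ | ⟨rfl, h⟩ | ⟨rfl, h⟩ | ⟨rfl, h⟩ | ⟨rfl, h⟩ | ⟨rfl, h⟩ |
      ⟨rfl, h⟩ | ⟨rfl, h⟩ | ⟨rfl, h⟩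
    · obtain ⟨rfl, rfl⟩ := key (q := 2) (k := 1) Nat.prime_two one_ne_zero (by rw [h]; norm_num)
      exact deadP_exc hp hr hf h.symm le_rfl (by rw [hK, h]) hm (by simp [Fin.prod_univ_succ]) (by norm_num)
        TabP.psl3_2 (by simp; norm_num) hn hpr hd
    · obtain ⟨rfl, rfl⟩ := key (q := 3) (k := 1) Nat.prime_three one_ne_zero (by rw [h]; norm_num)
      exact deadP_exc hp hr hf h.symm (by norm_num) (by rw [hK, h]) hm (by simp [Fin.prod_univ_succ]) (by norm_num)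
        TabP.psl3_3 (by simp; norm_num) hn hpr hd
    · obtain ⟨rfl, rfl⟩ := key (q := 2) (k := 2) Nat.prime_two two_ne_zero (by rw [h]; norm_num)
      exact deadP_exc hp hr hf h.symm (by norm_num) (by rw [hK, h]) hm (by simp [Fin.prod_univ_succ]) (by norm_num)
        TabP.psl3_4 (by simp; norm_num) hn hpr hd
    · obtain ⟨rfl, rfl⟩ := key (q := 5) (k := 1) Nat.prime_five one_ne_zero (by rw [h]; norm_num)
      have hn2 := hb (by rw [hK, h]; simp)
      rw [h] at hn2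
      exact deadP_exc hp hr hf h.symm (by norm_num) (by rw [hK, h]) hm (by simp [Fin.prod_univ_succ]) (by norm_num)
        TabP.psl3_5 (by simp; norm_num) hn2 hpr hd
    · obtain ⟨rfl, rfl⟩ := key (q := 7) (k := 1) (by norm_num) one_ne_zero (by rw [h]; norm_num)
      have hn2 := hb (by rw [hK, h]; simp)
      rw [h] at hn2
      exact deadP_exc hp hr hf h.symm (by norm_num) (by rw [hK, h]) hm (by simp [Fin.prod_univ_succ]) (by norm_num)
        TabP.psl3_7 (by simp; norm_num) hn2 hpr hd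
    · obtain ⟨rfl, rfl⟩ := key (q := 2) (k := 1) Nat.prime_two one_ne_zero (by rw [h]; norm_num)
      exact deadP_exc hp hr hf h.symm (by norm_num) (by rw [hK, h]) hm (by simp [Fin.prod_univ_succ]) (by norm_num)
        TabP.psl4_2 (by simp; norm_num) hn hpr hd
    · obtain ⟨rfl, rfl⟩ := key (q := 3) (k := 1) Nat.prime_three one_ne_zero (by rw [h]; norm_num)
      have hn2 := hb (by rw [hK, h]; simp)
      rw [h] at hn2
      exact deadP_exc hp hr hf h.symm (by norm_num) (by rw [hK, h]) hm (by simp [Fin.prod_univ_succ]) (by norm_num)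
        TabP.psl4_3 (by simp; norm_num) hn2 hpr hd
    · obtain ⟨rfl, rfl⟩ := key (q := 2) (k := 1) Nat.prime_two one_ne_zero (by rw [h]; norm_num)
      have hn2 := hb (by rw [hK, h]; simp)
      rw [h] at hn2
      exact deadP_exc hp hr hf h.symm (by norm_num) (by rw [hK, h]) hm (by simp [Fin.prod_univ_succ]) (by norm_num)
        TabP.psl5_2 (by simp; norm_num) hn2 hpr hd
    · obtain ⟨rfl, rfl⟩ := key (q := 3) (k := 1) Nat.prime_three one_ne_zero (by rw [h]; norm_num)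
      have hn2 := hb (by rw [hK, h]; simp)
      rw [h] at hn2
      exact deadP_exc hp hr hf h.symm (by norm_num) (by rw [hK, h]) hm (by simp [Fin.prod_univ_succ]) (by norm_num)
        TabP.psl5_3 (by simp; norm_num) hn2 hpr hd
    · obtain ⟨rfl, rfl⟩ := key (q := 2) (k := 1) Nat.prime_two one_ne_zero (by rw [h]; norm_num)
      have hn2 := hb (by rw [hK, h]; simp)
      rw [h] at hn2
      exact deadP_exc hp hr hf h.symm (by norm_num) (by rw [hK, h]) hm (by simp [Fin.prod_univ_succ]) (by norm_num)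
        TabP.psl6_2 (by simp; norm_num) hn2 hpr hd
    · obtain ⟨rfl, rfl⟩ := key (q := 2) (k := 1) Nat.prime_two one_ne_zero (by rw [h]; norm_num)
      have hn2 := hb (by rw [hK, h]; simp)
      rw [h] at hn2
      exact deadP_exc hp hr hf h.symm (by norm_num) (by rw [hK, h]) hm (by simp [Fin.prod_univ_succ]) (by norm_num)
        TabP.psl7_2 (by simp; norm_num) hn2 hpr hd
  · have h6 : r ^ f ≠ 6 := by
      intro h6
      have h2 : 2 ∣ r ^ f := by rw [h6]; norm_num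
      have h3 : 3 ∣ r ^ f := by rw [h6]; norm_num
      have e2 := (Nat.prime_dvd_prime_iff_eq Nat.prime_two hr).1 (Nat.prime_two.dvd_of_dvd_pow h2)
      have e3 := (Nat.prime_dvd_prime_iff_eq Nat.prime_three hr).1 (Nat.prime_three.dvd_of_dvd_pow h3)
      omega
    have h1 := pow_ineq hs2 hm h6 hexc
    have hn2 := hb (by
      rw [hK]
      simp only [E, Set.mem_insert_iff, Set.mem_singleton_iff, Prod.mk.injEq, not_or] at hexc ⊢
      omega)
    have hb' : (if r ^ f % 2 = 0 ∧ r ^ f ≤ 4 then 3 else 2) ≤ p := by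
      split_ifs with h
      · have h2 : 2 ∣ r ^ f := Nat.dvd_of_mod_eq_zero h.1
        have e2 := (Nat.prime_dvd_prime_iff_eq Nat.prime_two hr).1 (Nat.prime_two.dvd_of_dvd_pow h2)
        have := hp.two_le
        omega
      · exact hp.two_le
    refine deadP_of_pow (A := (r ^ f) ^ (m ^ 2 + 1)) hp (by omega) hb' ?_ Nat.card_pos ?_
    · have := Fact.mk hr
      have h1 := Cfsg.Agent.S0813.result (F := K) r f hf hK m (by omega) (by omega)
      rw [if_neg (by omega)] at h1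
      rw [h1]
      calc 2 * f * Nat.card (ProjGenLinGroup (Fin m) K) ≤ r ^ f * (r ^ f) ^ (m * m) := by
            refine Nat.mul_le_mul (two_mul_le_pow hr.two_le hf) ?_
            rw [← hK]
            exact card_pgl_le K (by omega)
        _ = (r ^ f) ^ (m ^ 2 + 1) := by rw [← pow_succ']; congr 1; ring
    · calc 2 * ((r ^ f) ^ (m ^ 2 + 1)) ^ 2 = 2 * (r ^ f) ^ (2 * m ^ 2 + 2) := by
            rw [← pow_mul]; congr 2; ring
        _ ≤ _ := h1
        _ ≤ _ := Nat.pow_le_pow_right (by split_ifs <;> norm_num) (by omega)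

end

/-! ### The theorem -/

/-- **`PSL`**, degree at least `13` -/
theorem deadP_psl {F : Type u} [Field F] [Finite F] {n p : ℕ} [Fact p.Prime] [CharP F p]
    {P : Subgroup (Matrix.GeneralLinearGroup (Fin n) F)} (hC : Core P) (hn : 13 ≤ n) (hp : p ∣ Nat.card (Soc P))
    (hL : ¬ Cfsg.IsLieTypeChar p (Soc P)) (hT : Cfsg.IsPSL (Soc P)) : DeadP p n (Soc P) := by
  obtain ⟨K, _, _, m, hm, hm2, ⟨e⟩⟩ := hT
  obtain ⟨r, f, hr, hf, hK, hch⟩ := exists_pf K
  refine DeadP.congr e.symm ?_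
  have hcard : Nat.card (Soc P) = Nat.card (ProjectiveSpecialLinearGroup (Fin m) K) := Nat.card_congr e.toEquiv
  have hpp : p.Prime := Fact.out
  have hpr : p ≠ r := by
    rintro rfl
    exact hL (Or.inl ⟨K, _, _, hch, m, hm, hm2, ⟨e⟩⟩)
  have hrF : (r : F) ≠ 0 := by
    intro h0
    exact hpr ((Nat.prime_dvd_prime_iff_eq (Fact.out : p.Prime) hr).1 ((CharP.cast_eq_zero_iff F p r).1 h0))
  have hPR : (m, Fintype.card K) ∉ ({(2, 4), (2, 9), (3, 2), (3, 4), (4, 2)} : Set (ℕ × ℕ)) → PR F n r (Soc P) := by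
    intro hexc
    have hd : r ∣ Fintype.card K := hK ▸ dvd_pow_self r (by omega)
    refine PR.of_noR ((NoR.of_cyclic (S2086.result (F := K) rfl m hm hm2 hexc)
      (coprime_gcd_sub hr Fintype.card_pos hd)).congr e) P hC.perfect (MulEquiv.refl _)
  by_cases h2 : m = 2
  · subst h2
    refine deadP_two hpp hr hf hK (hK ▸ hm2 rfl) hn ?_ hpr (hcard ▸ hp)
    rw [← hK]
    by_cases hexc : (2, Fintype.card K) ∈ ({(2, 4), (2, 9), (3, 2), (3, 4), (4, 2)} : Set (ℕ × ℕ))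
    · have h3 : Fintype.card K = 4 ∨ Fintype.card K = 9 := by
        simpa using hexc
      rcases h3 with h3 | h3 <;> rw [h3] <;> norm_num <;> omega
    · refine H203.BdSL2.bd_of_sl2 hr rfl hrF (e.symm.toMonoidHom.comp (QuotientGroup.mk' _)) ?_ n (hPR hexc)
      intro x hx
      have h1 : e.symm (QuotientGroup.mk' _ x) = 1 := hx
      rw [MulEquiv.map_eq_one_iff, QuotientGroup.mk'_apply, QuotientGroup.eq_one_iff] at h1
      exact h1
  · refine deadP_three hpp hr hf hK (by omega) hn (fun hexc => ?_) hpr (hcard ▸ hp)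
    rw [← hK]
    exact (bd_psl (F := F) hr hrF (by omega) inferInstance).congr e n (hPR hexc)

end Cfsg.Agent.H337.HT.PslP
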