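import Cfsg.Agent.H337.HT.Main
import Cfsg.Agent.H960.HT.Asm
import Cfsg.Agent.S0000

/-! # S3540: the quasisimple input of `H960/HT/Asm.lean`, from the classification -/

set_option autoImplicit false

universe u

namespace Cfsg.Agent.H337.HT

theorem qsRow : Cfsg.Agent.H960.HT.QSRow.{u} := by
  intro p _ V _ _ _ K _ _ G L h H
  have := H.simple
  exact QS.finrank_eq_two Cfsg.Agent.S0000.result H

end Cfsg.Agent.H337.HT
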