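import Cfsg.Agent.H337.HT.SporP
import Cfsg.Agent.H391.HT.Frame
import Cfsg.Agent.H192.Ht.Free
import Cfsg.Agent.H742.HT.Fus
import Cfsg.Agent.H839.SeventeenMain

/-!
# S3512: the sporadic groups in degree at least 13

* `kill23`: `Fi23`, `(n, q, m) = (24, 2, 69615)`: elements of order 17 have no fixed vector, so a complement of
  order 16 in `17:16` acts freely: `16 ∣ 24`;
* `killB`: `B`: 241 orbits, an element of order 47 has one non-zero fixed vector;
* `spor_tra`.
-/

set_option autoImplicit false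
set_option linter.unusedSectionVars false
set_option maxRecDepth 100000

universe u v w

namespace Cfsg.Agent.H337.HT.SporK

open Subgroup Cfsg Cfsg.Agent.H828.HT Cfsg.Agent.H19.HT Cfsg.Agent.H742.HT Cfsg.Agent.H742.HT.Fus Cfsg.Agent.H337.HT

/-- a Frobenius group of order `r (r - 1)` from the order of the normalizer of a Sylow subgroup -/
theorem exists_frob {T : Type v} [Group T] [Finite T] {R : Subgroup T} {r : ℕ} (hr : r.Prime) (hR : Nat.card R = r)
    (hN : Nat.card (normalizer (R : Set T)) = (r - 1) * r) (hC : Nat.card (centralizer (R : Set T)) = r) {a : ℕ}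
    (ha : ¬ r ∣ a) :
    ∃ z y : T, z ^ r = 1 ∧ z ≠ 1 ∧ y * z * y⁻¹ = z ^ a ∧ ∀ c : T, Commute c z → c ∈ zpowers z := by
  have hf : Fact r.Prime := ⟨hr⟩
  have hcy : IsCyclic R := isCyclic_of_prime_card hR
  obtain ⟨⟨z, hz⟩, hgen⟩ := hcy.exists_generator
  have hRz : R = zpowers z := by
    apply le_antisymm
    · intro x hx
      obtain ⟨k, hk⟩ := hgen ⟨x, hx⟩
      exact ⟨k, congrArg Subtype.val hk⟩
    · rwa [zpowers_le]
  have hoz : orderOf z = r := by rw [← Nat.card_zpowers, ← hRz, hR]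
  have hz1 : z ≠ 1 := by
    rintro rfl
    rw [orderOf_one] at hoz
    exact hr.one_lt.ne hoz
  refine ⟨z, ?_⟩
  have hcz : ∀ c : T, Commute c z → c ∈ centralizer (R : Set T) := by
    intro c hc
    rw [mem_centralizer_iff]
    intro x hx
    rw [hRz] at hx
    obtain ⟨k, rfl⟩ := hx
    exact (hc.zpow_right k).eq.symm
  -- the action of `N` on `R`
  let N := normalizer (R : Set T)
  have hmemR : ∀ {y x : T}, y ∈ N → x ∈ R → y * x * y⁻¹ ∈ R := fun hy hx => (mem_normalizer_iff.1 hy _).1 hx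
  let f : N → {x : T // x ∈ R ∧ x ≠ 1} := fun y => ⟨(y : T) * z * (y : T)⁻¹, hmemR y.2 hz, by
    intro h
    apply hz1
    have h1 : z = (y : T)⁻¹ * ((y : T) * z * (y : T)⁻¹) * y := by group
    rw [h1, h]; group⟩
  -- fibres
  have hfib : ∀ x : {x : T // x ∈ R ∧ x ≠ 1}, Nat.card {y : N // f y = x} ≤ r := by
    intro x
    rcases isEmpty_or_nonempty {y : N // f y = x} with h0 | ⟨⟨y0, hy0⟩⟩
    · rw [Nat.card_of_isEmpty]; omega
    · rw [← hC]
      refine Nat.card_le_card_of_injective (fun y : {y : N // f y = x} =>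
        (⟨(y0 : T)⁻¹ * (y.1 : T), ?_⟩ : centralizer (R : Set T))) ?_
      · have h1 : (y.1 : T) * z * (y.1 : T)⁻¹ = (y0 : T) * z * (y0 : T)⁻¹ :=
          congrArg Subtype.val (y.2.trans hy0.symm)
        have h2 : Commute ((y0 : T)⁻¹ * (y.1 : T)) z := by
          show (y0 : T)⁻¹ * (y.1 : T) * z = z * ((y0 : T)⁻¹ * (y.1 : T))
          have h3 : (y.1 : T) * z = (y0 : T) * z * (y0 : T)⁻¹ * (y.1 : T) := by rw [← h1]; group
          rw [mul_assoc, h3]; group
        exact hcz _ h2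
      · intro y y' h
        have h1 := congrArg Subtype.val h
        exact Subtype.ext (Subtype.ext (mul_left_cancel h1))
  have hcardX : Nat.card {x : T // x ∈ R ∧ x ≠ 1} = r - 1 := by
    have h1 : Nat.card {x : T // x ∈ R ∧ x ≠ 1} = Nat.card {x : R // x ≠ 1} := by
      refine Nat.card_congr ⟨fun x => ⟨⟨x.1, x.2.1⟩, fun h => x.2.2 (congrArg Subtype.val h)⟩,
        fun x => ⟨x.1.1, x.1.2, fun h => x.2 (Subtype.ext h)⟩, fun _ => rfl, fun _ => rfl⟩
    rw [h1]
    have h2 := Fintype.ofFinite R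
    classical
    rw [Nat.card_eq_fintype_card, Fintype.card_subtype_compl, Fintype.card_subtype_eq, ← Nat.card_eq_fintype_card, hR]
  have hsurj : Function.Surjective f := by
    by_contra hns
    rw [Function.Surjective] at hns
    push_neg at hns
    obtain ⟨x0, hx0⟩ := hns
    have hfX := Fintype.ofFinite {x : T // x ∈ R ∧ x ≠ 1}
    have hfN := Fintype.ofFinite N
    have h1 : Nat.card N = ∑ x : {x : T // x ∈ R ∧ x ≠ 1}, Nat.card {y : N // f y = x} := by
      rw [← Nat.card_sigma]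
      exact Nat.card_congr (Equiv.sigmaFiberEquiv f).symm
    have h2 : ∑ x : {x : T // x ∈ R ∧ x ≠ 1}, Nat.card {y : N // f y = x} <
        ∑ _x : {x : T // x ∈ R ∧ x ≠ 1}, r := by
      refine Finset.sum_lt_sum (fun x _ => hfib x) ⟨x0, Finset.mem_univ _, ?_⟩
      have : IsEmpty {y : N // f y = x0} := ⟨fun y => hx0 y.1 y.2⟩
      rw [Nat.card_of_isEmpty]
      exact hr.pos
    rw [← h1, Finset.sum_const, Finset.card_univ, ← Nat.card_eq_fintype_card, hcardX, smul_eq_mul, hN] at h2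
    exact lt_irrefl _ h2
  have hza : z ^ a ≠ 1 := by
    intro h
    apply ha
    rw [← hoz]
    exact orderOf_dvd_of_pow_eq_one h
  obtain ⟨y, hy⟩ := hsurj ⟨z ^ a, pow_mem hz a, hza⟩
  refine ⟨(y : T), ?_, hz1, congrArg Subtype.val hy, ?_⟩
  · rw [← hoz, pow_orderOf_eq_one]
  · intro c hc
    have h1 : centralizer (R : Set T) = R := by
      have hle : R ≤ centralizer (R : Set T) := by
        intro x hx
        refine hcz x ?_
        rw [hRz] at hx
        obtain ⟨k, rfl⟩ := hx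
        exact (Commute.refl z).zpow_left k
      exact (eq_of_le_of_card_ge hle (by rw [hC, hR])).symm
    rw [← hRz, ← h1]
    exact hcz c hc

theorem fi23_frob : ∃ z y : Spor.Fi23, z ^ 17 = 1 ∧ z ≠ 1 ∧ y * z * y⁻¹ = z ^ 3 ∧ y ^ 16 = 1 := by
  have hcard : Nat.card Spor.Fi23 = 4089470473293004800 := NotCT.Orders.fi23 ⟨MulEquiv.refl _⟩
  have hfin : Finite Spor.Fi23 := Nat.finite_of_card_ne_zero (by rw [hcard]; norm_num)
  have hp : Fact (Nat.Prime 17) := ⟨by norm_num⟩
  obtain ⟨x, hx⟩ := exists_prime_orderOf_dvd_card' (G := Spor.Fi23) 17 (by rw [hcard]; norm_num)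
  obtain ⟨h1, h2⟩ := Cfsg.Agent.H839.Fi23.seventeen_main (zpowers x) (by rw [Nat.card_zpowers, hx])
  obtain ⟨z, y, hz, hz1, hyz, hc⟩ := exists_frob (T := Spor.Fi23) (R := zpowers x) (r := 17) (by norm_num)
    (by rw [Nat.card_zpowers, hx]) (by rw [h1]) (by rw [h2, Nat.card_zpowers, hx]) (a := 3) (by norm_num)
  refine ⟨z, y, hz, hz1, hyz, ?_⟩
  have hpow : ∀ j : ℕ, y ^ j * z * (y ^ j)⁻¹ = z ^ (3 ^ j) := by
    intro j
    induction j with
    | zero => simp
    | succ j ih =>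
      have : y ^ (j + 1) * z * (y ^ (j + 1))⁻¹ = y * (y ^ j * z * (y ^ j)⁻¹) * y⁻¹ := by
        rw [pow_succ']; group
      rw [this, ih, ← conj_pow, hyz, ← pow_mul, pow_succ, mul_comm]
  have h16 := hpow 16
  have h17 : z ^ (3 ^ 16) = z := by
    have : (3 : ℕ) ^ 16 = 17 * 2532160 + 1 := by norm_num
    rw [this, pow_add, pow_mul, hz, one_pow, one_mul, pow_one]
  rw [h17] at h16
  have h18 : Commute (y ^ 16) z := mul_inv_eq_iff_eq_mul.1 h16
  obtain ⟨k, hk⟩ := hc _ h18
  have hk' : z ^ k = y ^ 16 := hk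
  have h19 : y * z ^ k * y⁻¹ = z ^ k := by
    rw [hk']
    group
  rw [← conj_zpow, hyz, ← zpow_natCast, ← zpow_mul] at h19
  have h20 : z ^ (2 * k) = 1 := by
    have h21 : z ^ (((3 : ℕ) : ℤ) * k) = z ^ (2 * k) * z ^ k := by
      rw [← zpow_add]; congr 1; push_cast; ring
    rw [h21] at h19
    exact mul_eq_right.1 h19
  have hoz : orderOf z = 17 := orderOf_eq_prime hz hz1
  have h22 : (17 : ℤ) ∣ 2 * k := by
    have := orderOf_dvd_iff_zpow_eq_one.2 h20
    rwa [hoz] at this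
  have h23 : (17 : ℤ) ∣ k := by omega
  obtain ⟨t, rfl⟩ := h23
  rw [← hk', zpow_mul]
  have : z ^ (17 : ℤ) = 1 := by
    have := hz
    exact_mod_cast this
  rw [this, one_zpow]

variable {p : ℕ} [hp : Fact p.Prime] {K : Type w} [Field K] {V : Type u} [AddCommGroup V] [Module (ZMod p) V]
    [Finite V] [Module K V] {G L : Subgroup (V ≃ₗ[ZMod p] V)} {h : ℕ}

/-- `|K| = 2`: `L` is simple -/
theorem exists_equiv (H : QSP p K V G L h) (h2 : Nat.card K = 2) : Nonempty (L ≃* L ⧸ center L) := by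
  have hz : center L = ⊥ := by
    rw [eq_bot_iff]
    intro z hz
    obtain ⟨c, hc⟩ := H.endo (z : V ≃ₗ[ZMod p] V) (fun l hl v => by
      have h3 : l * (z : V ≃ₗ[ZMod p] V) = (z : V ≃ₗ[ZMod p] V) * l :=
        congrArg Subtype.val (Subgroup.mem_center_iff.1 hz ⟨l, hl⟩)
      exact (LinearEquiv.congr_fun h3 v).symm)
    have hfin := H192.Ht.QN.finiteK (QSP.ql H)
    obtain ⟨v, hv⟩ := H192.Ht.QN.exists_ne (QSP.ql H)
    have hc0 : c ≠ 0 := by
      rintro rfl
      apply hv
      have h4 := hc v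
      rw [zero_smul] at h4
      exact (z : V ≃ₗ[ZMod p] V).map_eq_zero_iff.1 h4
    have hc1 : c = 1 := by
      have h5 : Nat.card Kˣ = 1 := by rw [Nat.card_units, h2]
      have h6 : Subsingleton Kˣ := (Nat.card_eq_one_iff_unique.1 h5).1
      exact congrArg Units.val (h6.elim (Units.mk0 c hc0) 1)
    rw [mem_bot]
    apply Subtype.ext
    apply LinearEquiv.ext
    intro v
    have := hc v
    rw [hc1, one_smul] at this
    exact this
  exact ⟨((QuotientGroup.quotientMulEquivOfEq hz).trans QuotientGroup.quotientBot).symm⟩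

/-- **`Fi23` in dimension 24** -/
theorem kill23 (H : QSP p K V G L h) (hT : Spor.IsoFi23 (L ⧸ center L)) {m : ℕ} (hm : m * h = Nat.card G)
    (hn : Module.finrank K V = 24) (hq : Nat.card K = 2) (hm0 : m = 69615) : False := by
  obtain ⟨e0⟩ := exists_equiv H hq
  obtain ⟨e1⟩ := hT
  let e : L ≃* Spor.Fi23 := e0.trans e1
  obtain ⟨z, y, hz, hz1, hyz, hy⟩ := fi23_frob
  -- `|G|` divides `|Fi23|`
  have hcard : Nat.card Spor.Fi23 = 4089470473293004800 := NotCT.Orders.fi23 ⟨MulEquiv.refl _⟩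
  have hsim := H.simple
  have hA : Nat.card (MulAut (L ⧸ center L)) = 4089470473293004800 :=
    (Nat.card_congr (MulAut.congr e1).toEquiv).trans
      (H119.HT.card_aut (H391.HT.not_comm H) e1 hcard S2080.result (by norm_num))
  have hG := H192.Ht.QN.card_G_dvd (QSP.ql H)
  rw [hq, hA, ← hm, hm0] at hG
  have h17 : ¬ 17 ∣ h := by
    rintro ⟨t, rfl⟩
    have h3 : 17 * 17 ∣ 4089470473293004800 := by
      refine dvd_trans ?_ (hG.trans (by norm_num))
      exact ⟨4095 * t, by ring⟩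
    revert h3
    norm_num
  have hf : Fact (Nat.Prime 17) := ⟨by norm_num⟩
  have hp17 : (17 : ℕ) ≠ p := by
    have h5 : p ∣ 2 := by
      obtain ⟨k, hk, hk0⟩ := H192.Ht.QN.exists_card (QSP.ql H)
      rw [← hq, hk]
      exact dvd_pow_self p (by omega)
    intro h6
    rw [← h6] at h5
    norm_num at h5
  have hzL : (e.symm z) ^ 17 = 1 := by rw [← map_pow, hz, map_one]
  have hfr := H192.Ht.frob (H192.Ht.toQL H) (r := 17) (by norm_num) hp17 (z := e.symm z) (y := e.symm y) (a := 3)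
    (e := 16) hzL (by rw [← map_inv, ← map_mul, ← map_mul, hyz, map_pow]) (by
      rw [orderOf_eq_iff (by norm_num)]
      refine ⟨by decide, ?_⟩
      intro m hm hm0
      interval_cases m <;> decide) (by norm_num) (by rw [← map_pow, hy, map_one]) (by
      intro v hv
      refine H192.Ht.fpf_of_not_dvd H.half h17 (g := ((e.symm z : L) : V ≃ₗ[ZMod p] V)) (H.le (e.symm z).2) ?_ ?_ hv
      · exact congrArg Subtype.val hzL
      · intro h7
        apply hz1
        have h8 : e.symm z = 1 := Subtype.ext h7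
        rw [← e.apply_symm_apply z, h8, map_one])
  obtain ⟨c, hc, -⟩ := hfr
  rw [hn] at hc
  omega

/-- **`B` in dimension 24** -/
theorem killB (H : QSP p K V G L h) (hT : Spor.IsoB (L ⧸ center L)) {m : ℕ} (hm : m * h = Nat.card G)
    (hn : Module.finrank K V = 24) (hq : Nat.card K = 2) (hm0 : m = 69615) : False := by
  obtain ⟨e0⟩ := exists_equiv H hq
  obtain ⟨e1⟩ := hT
  have hcard : Nat.card L = 4154781481226426191177580544000000 :=
    (Nat.card_congr (e0.trans e1).toEquiv).trans (NotCT.Orders.b ⟨MulEquiv.refl _⟩)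
  have hK := H192.Ht.QN.finiteK (QSP.ql H)
  have hf : Fact (Nat.Prime 47) := ⟨by norm_num⟩
  obtain ⟨x, hx⟩ := exists_prime_orderOf_dvd_card' (G := L) 47 (by rw [hcard]; norm_num)
  have hV : Nat.card V = 2 ^ 24 := by rw [H192.Ht.QN.card_V (QSP.ql H), hn, hq]
  have hx47 : (x : V ≃ₗ[ZMod p] V) ^ 47 = 1 := by
    have := pow_orderOf_eq_one x
    rw [hx] at this
    exact congrArg Subtype.val this
  obtain ⟨v, hv⟩ := H192.Ht.QN.exists_ne (QSP.ql H)
  have h0 : 0 < h := Cfsg.Agent.H19.HT.h_pos H.half hv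
  have h1 := fus_fx H.half h0 hm (i := 241) (by rw [hm0, hV]; norm_num) (s := 47) (by norm_num) (H.le x.2) (k := 1)
    (by rw [pow_one]; exact hx47)
  rw [hm0] at h1
  -- `|C_V(x)| = 2 ^ c`
  obtain ⟨c, hc, -, hc1⟩ := card_fx (K := K) H.lin x.2
  rw [hq] at hc
  have hc1 : c < 24 := by
    rw [← hn]
    apply hc1
    intro h7
    have h8 : x = 1 := Subtype.ext h7
    rw [h8, orderOf_one] at hx
    norm_num at hx
  -- `|V| ≡ |C_V(x)|`
  have h3 : Nat.card V ≡ Nat.card (fx (x : V ≃ₗ[ZMod p] V)) [MOD 47] := by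
    have h4 := (isPGroup_zpowers (x := (x : V ≃ₗ[ZMod p] V)) (s := 47) (k := 1)
      (by rw [pow_one]; exact hx47)).card_modEq_card_fixedPoints V
    refine h4.trans ?_
    rw [show Nat.card (MulAction.fixedPoints (zpowers (x : V ≃ₗ[ZMod p] V)) V) = Nat.card (fx (x : V ≃ₗ[ZMod p] V)) from
      Nat.card_congr (Equiv.subtypeEquivRight fun u => ?_)]
    change _ ↔ u ∈ fx (x : V ≃ₗ[ZMod p] V)
    rw [← fxs_zpowers, mem_fxs]
    constructor
    · intro h5 g hg
      exact h5 ⟨g, hg⟩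
    · intro h5 g
      exact h5 g.1 g.2
  rw [hc] at h1 h3
  rw [hV] at h3
  have hc2 : 10 < c := by
    by_contra hle
    have := Nat.pow_le_pow_right (n := 2) (by norm_num) (show c ≤ 10 by omega)
    norm_num at this h1
    omega
  interval_cases c <;> revert h3 <;> decide

/-- **the sporadic groups in degree at least 13** -/
theorem spor_tra (H : QSP p K V G L h) (hpL : p ∣ Nat.card L) (hn : 13 ≤ Module.finrank K V)
    (hS : IsSporadicGroup (L ⧸ center L)) : Tra G := by
  by_contra hnt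
  obtain ⟨m, hm, hc, -⟩ := H192.Ht.QN.cp (QSP.ql H) H.dvd hnt
  obtain ⟨k, hk, hk0⟩ := H192.Ht.QN.exists_card (QSP.ql H)
  have hsim := H.simple
  have hg := (H192.Ht.QN.card_quot_dvd_L (QSP.ql H)).trans (H192.Ht.QN.card_L_dvd_gl (QSP.ql H))
  have hd := H391.HT.dvd_quot H hpL
  rw [hk] at hc
  have h1 := SporP.surv_spor (H391.HT.not_comm H) hp.out hd hn hS hk0 hc (by
    rw [H391.HT.glOrd_eq, ← hk]
    exact hg)
  obtain ⟨h2, h3, h4, h5⟩ := h1
  rw [← hk] at h4
  rcases h2 with h2 | h2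
  · exact kill23 H h2 hm h3 h4 h5
  · exact killB H h2 hm h3 h4 h5

end Cfsg.Agent.H337.HT.SporK
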