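import Cfsg.Agent.H337.HT.TabS
import Cfsg.Agent.H4.HT.Spor
import Cfsg.Agent.H119.HT.SporA
import Cfsg.Agent.H119.HT.SporB
import Cfsg.Agent.H742.HT.QL

/-!
# S3512: the sporadic groups in degree at least 13

`surv_spor`: the only solutions of the numerical conditions are `n = 24`, `q = 2`, `m = 69615` for `Fi23` and `B`.
-/

set_option autoImplicit false
set_option linter.unusedSectionVars false
set_option maxRecDepth 100000

universe u v

namespace Cfsg.Agent.H337.HT.SporP

open Cfsg Cfsg.Agent Cfsg.Agent.H915.LD Cfsg.Agent.H337.HT Cfsg.Agent.H391.HT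

variable {S : Type u} [Group S] [IsSimpleGroup S]

/-- the frame, no survivors -/
theorem dead_of (hna : ¬ IsMulCommutative S) {T : Type v} [Group T] (e : S ≃* T) {o k A : ℕ} (ps : List ℕ)
    (ho : Nat.card T = o) (hk : Nat.card (Cfsg.Out T) = k) (hA : o * k = A) (hps : ∀ p ∈ 97 :: ps, p.Prime)
    (hc : chkP 97 ps o A 13 = true) (h97 : o % 97 ≠ 0) {p n : ℕ} (hp : p.Prime) (hd : p ∣ Nat.card S) (hn : 13 ≤ n) :
    DeadP p n S := by
  have h1 : Nat.card S = o := (Nat.card_congr e.toEquiv).trans ho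
  have h2 : Nat.card (MulAut S) = A := (Nat.card_congr (MulAut.congr e).toEquiv).trans
    (H119.HT.card_aut hna e ho hk hA)
  refine deadP_sieve 97 ps h1 (by rw [h2]) hps hc hp hd ?_ hn
  rintro rfl
  rw [h1] at hd
  exact h97 (Nat.mod_eq_zero_of_dvd hd)

/-- the frame with survivors -/
theorem surv_of (hna : ¬ IsMulCommutative S) {T : Type v} [Group T] (e : S ≃* T) {o k A : ℕ} (l : List ℕ)
    (ho : Nat.card T = o) (hk : Nat.card (Cfsg.Out T) = k) (hA : o * k = A) {ft : ℕ} {ex ex' rs : List (ℕ × ℕ × ℕ)}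
    (hc : okAll o A 13 ft 4000 4000 ex rs = true) (hl : ∀ x ∈ l, x.Prime) (hlo : Nat.beq (l.prod ^ 50 % o) 0 = true)
    (hm : rs.map Prod.fst = l)
    (he : ex.filter (fun x => Nat.beq (H742.HT.glOrd x.2.1 x.1 % o) 0) = ex') {p n : ℕ} (hp : p.Prime)
    (hd : p ∣ Nat.card S) (hn : 13 ≤ n) {j m h : ℕ} (hj : 1 ≤ j)
    (hcp : CP (Nat.card S) (Nat.card (MulAut S)) n (p ^ j) m h) (hg : Nat.card S ∣ H742.HT.glOrd (p ^ j) n) :
    (n, p ^ j, m) ∈ ex' := by
  have h1 : Nat.card S = o := (Nat.card_congr e.toEquiv).trans ho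
  have h2 : Nat.card (MulAut S) = A := (Nat.card_congr (MulAut.congr e).toEquiv).trans
    (H119.HT.card_aut hna e ho hk hA)
  have h3 := surv rs ft 4000 4000 hp h1 (A := A) (by rw [h2]) (by norm_num) hn hc (by
    rw [hm]; exact mem_of_dvd hp l hl hlo (h1 ▸ hd)) j m h hj hcp
  rw [← he, List.mem_filter]
  refine ⟨h3, ?_⟩
  rw [Nat.beq_eq]
  rw [h1] at hg
  exact Nat.mod_eq_zero_of_dvd hg

section

variable (hna : ¬ IsMulCommutative S) {p n : ℕ} (hp : p.Prime) (hd : p ∣ Nat.card S) (hn : 13 ≤ n)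

include hna hp hd hn

theorem d_m11 (h : Spor.IsoM11 S) : DeadP p n S := by
  obtain ⟨e⟩ := h
  exact dead_of hna e (o := 7920) (A := 7920) [2, 3, 5, 11] Cit.TypeDet.card_M11' S2060.result (by norm_num) (by simp only [List.mem_cons, List.not_mem_nil, or_false]; rintro x (rfl | rfl | rfl | rfl | rfl) <;> norm_num) TabS.m11 (by norm_num) hp hd hn

theorem d_m12 (h : Spor.IsoM12 S) : DeadP p n S := by
  obtain ⟨e⟩ := h
  exact dead_of hna e (o := 95040) (A := 190080) [2, 3, 5, 11] MTwelveType.SylowModel.card_M12 S2061.result (by norm_num) (by simp only [List.mem_cons, List.not_mem_nil, or_false]; rintro x (rfl | rfl | rfl | rfl | rfl) <;> norm_num) TabS.m12 (by norm_num) hp hd hn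

theorem d_m22 (h : Spor.IsoM22 S) : DeadP p n S := by
  obtain ⟨e⟩ := h
  exact dead_of hna e (o := 443520) (A := 887040) [2, 3, 5, 7, 11] SporadicA.MathieuRecog.card_M22 S2062.result (by norm_num) (by simp only [List.mem_cons, List.not_mem_nil, or_false]; rintro x (rfl | rfl | rfl | rfl | rfl | rfl) <;> norm_num) TabS.m22 (by norm_num) hp hd hn

theorem d_m23 (h : Spor.IsoM23 S) : DeadP p n S := by
  obtain ⟨e⟩ := h
  exact dead_of hna e (o := 10200960) (A := 10200960) [2, 3, 5, 7, 11, 23] SporadicA.MathieuRecog.card_M23 S2063.result (by norm_num) (by simp only [List.mem_cons, List.not_mem_nil, or_false]; rintro x (rfl | rfl | rfl | rfl | rfl | rfl | rfl) <;> norm_num) TabS.m23 (by norm_num) hp hd hn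

theorem d_m24 (h : Spor.IsoM24 S) : DeadP p n S := by
  obtain ⟨e⟩ := h
  exact dead_of hna e (o := 244823040) (A := 244823040) [2, 3, 5, 7, 11, 23] S0364.result S2064.result (by norm_num) (by simp only [List.mem_cons, List.not_mem_nil, or_false]; rintro x (rfl | rfl | rfl | rfl | rfl | rfl | rfl) <;> norm_num) TabS.m24 (by norm_num) hp hd hn

theorem d_j1 (h : Spor.IsoJ1 S) : DeadP p n S := by
  obtain ⟨e⟩ := h
  exact dead_of hna e (o := 175560) (A := 175560) [2, 3, 5, 7, 11, 19] SporadicB.J1.Main.isJ1.2 S2065.result (by norm_num) (by simp only [List.mem_cons, List.not_mem_nil, or_false]; rintro x (rfl | rfl | rfl | rfl | rfl | rfl | rfl) <;> norm_num) TabS.j1 (by norm_num) hp hd hn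

theorem d_j2 (h : Spor.IsoJ2 S) : DeadP p n S := by
  obtain ⟨e⟩ := h
  exact dead_of hna e (o := 604800) (A := 1209600) [2, 3, 5, 7] S1619.result.2.2.2 S2066.result (by norm_num) (by simp only [List.mem_cons, List.not_mem_nil, or_false]; rintro x (rfl | rfl | rfl | rfl | rfl) <;> norm_num) TabS.j2 (by norm_num) hp hd hn

theorem d_j4 (h : Spor.IsoJ4 S) : DeadP p n S := by
  obtain ⟨e⟩ := h
  exact dead_of hna e (o := 86775571046077562880) (A := 86775571046077562880) [2, 3, 5, 7, 11, 23, 29, 31, 37, 43] S1703.result.2 S2068.result (by norm_num) (by simp only [List.mem_cons, List.not_mem_nil, or_false]; rintro x (rfl | rfl | rfl | rfl | rfl | rfl | rfl | rfl | rfl | rfl | rfl) <;> norm_num) TabS.j4 (by norm_num) hp hd hn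

theorem d_co1 (h : Spor.IsoCo1 S) : DeadP p n S := by
  obtain ⟨e⟩ := h
  exact dead_of hna e (o := 4157776806543360000) (A := 4157776806543360000) [2, 3, 5, 7, 11, 13, 23] (NotCT.Orders.co1 ⟨MulEquiv.refl _⟩) S2069.result (by norm_num) (by simp only [List.mem_cons, List.not_mem_nil, or_false]; rintro x (rfl | rfl | rfl | rfl | rfl | rfl | rfl | rfl) <;> norm_num) TabS.co1 (by norm_num) hp hd hn

theorem d_co2 (h : Spor.IsoCo2 S) : DeadP p n S := by
  obtain ⟨e⟩ := h
  exact dead_of hna e (o := 42305421312000) (A := 42305421312000) [2, 3, 5, 7, 11, 23] (NotCT.Orders.co2 ⟨MulEquiv.refl _⟩) S2070.result (by norm_num) (by simp only [List.mem_cons, List.not_mem_nil, or_false]; rintro x (rfl | rfl | rfl | rfl | rfl | rfl | rfl) <;> norm_num) TabS.co2 (by norm_num) hp hd hn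

theorem d_co3 (h : Spor.IsoCo3 S) : DeadP p n S := by
  obtain ⟨e⟩ := h
  exact dead_of hna e (o := 495766656000) (A := 495766656000) [2, 3, 5, 7, 11, 23] (NotCT.Orders.co3 ⟨MulEquiv.refl _⟩) S2071.result (by norm_num) (by simp only [List.mem_cons, List.not_mem_nil, or_false]; rintro x (rfl | rfl | rfl | rfl | rfl | rfl | rfl) <;> norm_num) TabS.co3 (by norm_num) hp hd hn

theorem d_hs (h : Spor.IsoHS S) : DeadP p n S := by
  obtain ⟨e⟩ := h
  exact dead_of hna e (o := 44352000) (A := 88704000) [2, 3, 5, 7, 11] (NotCT.Orders.hs ⟨MulEquiv.refl _⟩) S2072.result (by norm_num) (by simp only [List.mem_cons, List.not_mem_nil, or_false]; rintro x (rfl | rfl | rfl | rfl | rfl | rfl) <;> norm_num) TabS.hs (by norm_num) hp hd hn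

theorem d_mcl (h : Spor.IsoMcL S) : DeadP p n S := by
  obtain ⟨e⟩ := h
  exact dead_of hna e (o := 898128000) (A := 1796256000) [2, 3, 5, 7, 11] (NotCT.Orders.mcl ⟨MulEquiv.refl _⟩) S2073.result (by norm_num) (by simp only [List.mem_cons, List.not_mem_nil, or_false]; rintro x (rfl | rfl | rfl | rfl | rfl | rfl) <;> norm_num) TabS.mcl (by norm_num) hp hd hn

theorem d_suz (h : Spor.IsoSuz S) : DeadP p n S := by
  obtain ⟨e⟩ := h
  exact dead_of hna e (o := 448345497600) (A := 896690995200) [2, 3, 5, 7, 11, 13] (NotCT.Orders.suz ⟨MulEquiv.refl _⟩) S2074.result (by norm_num) (by simp only [List.mem_cons, List.not_mem_nil, or_false]; rintro x (rfl | rfl | rfl | rfl | rfl | rfl | rfl) <;> norm_num) TabS.suz (by norm_num) hp hd hn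

theorem d_he (h : Spor.IsoHe S) : DeadP p n S := by
  obtain ⟨e⟩ := h
  exact dead_of hna e (o := 4030387200) (A := 8060774400) [2, 3, 5, 7, 17] (NotCT.Orders.he ⟨MulEquiv.refl _⟩) S2075.result (by norm_num) (by simp only [List.mem_cons, List.not_mem_nil, or_false]; rintro x (rfl | rfl | rfl | rfl | rfl | rfl) <;> norm_num) TabS.he (by norm_num) hp hd hn

theorem d_ru (h : Spor.IsoRu S) : DeadP p n S := by
  obtain ⟨e⟩ := h
  exact dead_of hna e (o := 145926144000) (A := 145926144000) [2, 3, 5, 7, 13, 29] (NotCT.Orders.ru ⟨MulEquiv.refl _⟩) S2077.result (by norm_num) (by simp only [List.mem_cons, List.not_mem_nil, or_false]; rintro x (rfl | rfl | rfl | rfl | rfl | rfl | rfl) <;> norm_num) TabS.ru (by norm_num) hp hd hn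

theorem d_on (h : Spor.IsoON S) : DeadP p n S := by
  obtain ⟨e⟩ := h
  exact dead_of hna e (o := 460815505920) (A := 921631011840) [2, 3, 5, 7, 11, 19, 31] (NotCT.Orders.on ⟨MulEquiv.refl _⟩) S2078.result (by norm_num) (by simp only [List.mem_cons, List.not_mem_nil, or_false]; rintro x (rfl | rfl | rfl | rfl | rfl | rfl | rfl | rfl) <;> norm_num) TabS.on (by norm_num) hp hd hn

theorem s_ly (h : Spor.IsoLy S) {j m h' : ℕ} (hj : 1 ≤ j)
    (hcp : CP (Nat.card S) (Nat.card (MulAut S)) n (p ^ j) m h') (hg : Nat.card S ∣ H742.HT.glOrd (p ^ j) n) :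
    (n, p ^ j, m) ∈ ([] : List (ℕ × ℕ × ℕ)) := by
  obtain ⟨e⟩ := h
  exact surv_of hna e (o := 51765179004000000) (A := 51765179004000000) [2, 3, 5, 7, 11, 31, 37, 67] (NotCT.Orders.ly ⟨MulEquiv.refl _⟩) S2076.result (by norm_num) TabS.ly (by simp only [List.mem_cons, List.not_mem_nil, or_false]; rintro x (rfl | rfl | rfl | rfl | rfl | rfl | rfl | rfl) <;> norm_num) (by decide +kernel) rfl
    (by decide +kernel) hp hd hn hj hcp hg

theorem d_fi22 (h : Spor.IsoFi22 S) : DeadP p n S := by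
  obtain ⟨e⟩ := h
  exact dead_of hna e (o := 64561751654400) (A := 129123503308800) [2, 3, 5, 7, 11, 13] (NotCT.Orders.fi22 ⟨MulEquiv.refl _⟩) S2079.result (by norm_num) (by simp only [List.mem_cons, List.not_mem_nil, or_false]; rintro x (rfl | rfl | rfl | rfl | rfl | rfl | rfl) <;> norm_num) TabS.fi22 (by norm_num) hp hd hn

theorem s_fi23 (h : Spor.IsoFi23 S) {j m h' : ℕ} (hj : 1 ≤ j)
    (hcp : CP (Nat.card S) (Nat.card (MulAut S)) n (p ^ j) m h') (hg : Nat.card S ∣ H742.HT.glOrd (p ^ j) n) :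
    (n, p ^ j, m) ∈ ([(24, 2, 69615)] : List (ℕ × ℕ × ℕ)) := by
  obtain ⟨e⟩ := h
  exact surv_of hna e (o := 4089470473293004800) (A := 4089470473293004800) [2, 3, 5, 7, 11, 13, 17, 23] (NotCT.Orders.fi23 ⟨MulEquiv.refl _⟩) S2080.result (by norm_num) TabS.fi23 (by simp only [List.mem_cons, List.not_mem_nil, or_false]; rintro x (rfl | rfl | rfl | rfl | rfl | rfl | rfl | rfl) <;> norm_num) (by decide +kernel) rfl
    (by decide +kernel) hp hd hn hj hcp hg

theorem s_fi24 (h : Spor.IsoFi24' S) {j m h' : ℕ} (hj : 1 ≤ j)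
    (hcp : CP (Nat.card S) (Nat.card (MulAut S)) n (p ^ j) m h') (hg : Nat.card S ∣ H742.HT.glOrd (p ^ j) n) :
    (n, p ^ j, m) ∈ ([] : List (ℕ × ℕ × ℕ)) := by
  obtain ⟨e⟩ := h
  exact surv_of hna e (o := 1255205709190661721292800) (A := 2510411418381323442585600) [2, 3, 5, 7, 11, 13, 17, 23, 29] (NotCT.Orders.fi24 ⟨MulEquiv.refl _⟩) S2081.result (by norm_num) TabS.fi24 (by simp only [List.mem_cons, List.not_mem_nil, or_false]; rintro x (rfl | rfl | rfl | rfl | rfl | rfl | rfl | rfl | rfl) <;> norm_num) (by decide +kernel) rfl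
    (by decide +kernel) hp hd hn hj hcp hg

theorem d_hn (h : Spor.IsoHN S) : DeadP p n S := by
  obtain ⟨e⟩ := h
  exact dead_of hna e (o := 273030912000000) (A := 546061824000000) [2, 3, 5, 7, 11, 19] (NotCT.Orders.hn ⟨MulEquiv.refl _⟩) S2082.result (by norm_num) (by simp only [List.mem_cons, List.not_mem_nil, or_false]; rintro x (rfl | rfl | rfl | rfl | rfl | rfl | rfl) <;> norm_num) TabS.hn (by norm_num) hp hd hn

theorem d_th (h : Spor.IsoTh S) : DeadP p n S := by
  obtain ⟨e⟩ := h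
  exact dead_of hna e (o := 90745943887872000) (A := 90745943887872000) [2, 3, 5, 7, 13, 19, 31] (NotCT.Orders.th ⟨MulEquiv.refl _⟩) S2083.result (by norm_num) (by simp only [List.mem_cons, List.not_mem_nil, or_false]; rintro x (rfl | rfl | rfl | rfl | rfl | rfl | rfl | rfl) <;> norm_num) TabS.th (by norm_num) hp hd hn

theorem s_b (h : Spor.IsoB S) {j m h' : ℕ} (hj : 1 ≤ j)
    (hcp : CP (Nat.card S) (Nat.card (MulAut S)) n (p ^ j) m h') (hg : Nat.card S ∣ H742.HT.glOrd (p ^ j) n) :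
    (n, p ^ j, m) ∈ ([(24, 2, 69615)] : List (ℕ × ℕ × ℕ)) := by
  obtain ⟨e⟩ := h
  exact surv_of hna e (o := 4154781481226426191177580544000000) (A := 4154781481226426191177580544000000) [2, 3, 5, 7, 11, 13, 17, 19, 23, 31, 47] (NotCT.Orders.b ⟨MulEquiv.refl _⟩) S2084.result (by norm_num) TabS.b (by simp only [List.mem_cons, List.not_mem_nil, or_false]; rintro x (rfl | rfl | rfl | rfl | rfl | rfl | rfl | rfl | rfl | rfl | rfl) <;> norm_num) (by decide +kernel) rfl
    (by decide +kernel) hp hd hn hj hcp hg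

theorem s_m (h : Spor.IsoM S) {j m h' : ℕ} (hj : 1 ≤ j)
    (hcp : CP (Nat.card S) (Nat.card (MulAut S)) n (p ^ j) m h') (hg : Nat.card S ∣ H742.HT.glOrd (p ^ j) n) :
    (n, p ^ j, m) ∈ ([] : List (ℕ × ℕ × ℕ)) := by
  obtain ⟨e⟩ := h
  exact surv_of hna e (o := 808017424794512875886459904961710757005754368000000000) (A := 808017424794512875886459904961710757005754368000000000) [2, 3, 5, 7, 11, 13, 17, 19, 23, 29, 31, 41, 47, 59, 71] (NotCT.Orders.m ⟨MulEquiv.refl _⟩) S2085.result (by norm_num) TabS.m (by simp only [List.mem_cons, List.not_mem_nil, or_false]; rintro x (rfl | rfl | rfl | rfl | rfl | rfl | rfl | rfl | rfl | rfl | rfl | rfl | rfl | rfl | rfl) <;> norm_num) (by decide +kernel) rfl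
    (by decide +kernel) hp hd hn hj hcp hg

theorem d_j3 (h : Spor.IsoJ3 S) : DeadP p n S := by
  obtain ⟨K, _, _, ω, hK, hω, ⟨e⟩⟩ := h
  exact dead_of hna e (o := 50232960) (A := 100465920) [2, 3, 5, 17, 19] (S1625.result K hK ω hω).2.2.1 (S2067.result hK ω hω) (by norm_num) (by simp only [List.mem_cons, List.not_mem_nil, or_false]; rintro x (rfl | rfl | rfl | rfl | rfl | rfl) <;> norm_num) TabS.j3 (by norm_num) hp hd hn

/-- **the sporadic groups, degree at least 13** -/
theorem surv_spor (hT : IsSporadicGroup S) {j m h' : ℕ} (hj : 1 ≤ j)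
    (hcp : CP (Nat.card S) (Nat.card (MulAut S)) n (p ^ j) m h') (hg : Nat.card S ∣ H742.HT.glOrd (p ^ j) n) :
    (Spor.IsoFi23 S ∨ Spor.IsoB S) ∧ n = 24 ∧ p ^ j = 2 ∧ m = 69615 := by
  rcases hT with h | h | h | h | h | h | h | h | h | h | h | h | h | h | h | h | h | h | h | h | h | h | h | h | h | h
  · exact absurd hcp (d_m11 hna hp hd hn h j m h' hj)
  · exact absurd hcp (d_m12 hna hp hd hn h j m h' hj)
  · exact absurd hcp (d_m22 hna hp hd hn h j m h' hj)
  · exact absurd hcp (d_m23 hna hp hd hn h j m h' hj)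
  · exact absurd hcp (d_m24 hna hp hd hn h j m h' hj)
  · exact absurd hcp (d_j1 hna hp hd hn h j m h' hj)
  · exact absurd hcp (d_j2 hna hp hd hn h j m h' hj)
  · exact absurd hcp (d_j3 hna hp hd hn h j m h' hj)
  · exact absurd hcp (d_j4 hna hp hd hn h j m h' hj)
  · exact absurd hcp (d_co1 hna hp hd hn h j m h' hj)
  · exact absurd hcp (d_co2 hna hp hd hn h j m h' hj)
  · exact absurd hcp (d_co3 hna hp hd hn h j m h' hj)
  · exact absurd hcp (d_mcl hna hp hd hn h j m h' hj)
  · exact absurd hcp (d_hs hna hp hd hn h j m h' hj)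
  · exact absurd hcp (d_suz hna hp hd hn h j m h' hj)
  · exact absurd hcp (d_he hna hp hd hn h j m h' hj)
  · exact absurd hcp (d_ru hna hp hd hn h j m h' hj)
  · exact absurd hcp (d_on hna hp hd hn h j m h' hj)
  · exact absurd (s_ly hna hp hd hn h hj hcp hg) List.not_mem_nil
  · exact absurd hcp (d_fi22 hna hp hd hn h j m h' hj)
  · have h1 := s_fi23 hna hp hd hn h hj hcp hg
    rw [List.mem_singleton, Prod.mk.injEq, Prod.mk.injEq] at h1
    exact ⟨Or.inl h, h1⟩
  · exact absurd (s_fi24 hna hp hd hn h hj hcp hg) List.not_mem_nil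
  · exact absurd hcp (d_hn hna hp hd hn h j m h' hj)
  · exact absurd hcp (d_th hna hp hd hn h j m h' hj)
  · have h1 := s_b hna hp hd hn h hj hcp hg
    rw [List.mem_singleton, Prod.mk.injEq, Prod.mk.injEq] at h1
    exact ⟨Or.inr h, h1⟩
  · exact absurd (s_m hna hp hd hn h hj hcp hg) List.not_mem_nil

end

end Cfsg.Agent.H337.HT.SporP
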